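import Cfsg.Agent.FlavellQuad.Linear
import Cfsg.Agent.KInfGen.Key

/-!
# The K-infinity subgroup of the intersection of the invariant Sylow subgroups is normal
-/

set_option autoImplicit false

namespace Cfsg.Agent.FlavellQuad

open Cfsg Subgroup
open Cfsg.Agent.RootSub
open scoped commutatorElement

universe u

variable {Y : Type u} [Group Y] [Finite Y] {p : ℕ} [Fact p.Prime]

/-- The quadratic chief factor, for a normal subgroup constrained at p. -/
theorem exists_quadratic_factor_in (L : Subgroup Y) [L.Normal] {A Z : Subgroup Y} [A.Normal]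
    [Z.Normal] (hAT : A ≤ Cfsg.pCore p Y) (hZA : Z ≤ A)
    (hA5 : ∀ φ : MulAut ↥(Cfsg.pCore p Y), (orderOf φ).Coprime p →
      (∀ a : ↥(Cfsg.pCore p Y), (a : Y) ∈ A → φ a = a) → φ = 1)
    (hC : centralizer (Cfsg.pCore p Y : Set Y) ⊓ L ≤ Cfsg.pCore p Y) {g : Y} (hgL : g ∈ L)
    (hgT : g ∉ Cfsg.pCore p Y) (hZgg : ⁅⁅Z, zpowers g⁆, zpowers g⁆ = ⊥)
    (h : (∃ U V, Cfsg.IsChiefFactor U V ∧ U ≤ Z ∧ ¬ KInf.TrivOn g U V) ∨
      ∀ U V, Cfsg.IsChiefFactor U V → Z ≤ V → U ≤ A → Cfsg.iterCommutator U (zpowers g) 2 ≤ V) :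
    ∃ U V : Subgroup Y, Cfsg.IsChiefFactor U V ∧ U ≤ A ∧
      ⁅⁅U, zpowers g⁆, zpowers g⁆ ≤ V ∧ ¬ KInf.TrivOn g U V := by
  have hZ2 : ∀ U V : Subgroup Y, U ≤ Z → ⁅⁅U, zpowers g⁆, zpowers g⁆ ≤ V := fun U V hU =>
    ((commutator_mono (commutator_mono hU le_rfl) le_rfl).trans hZgg.le).trans bot_le
  rcases h with ⟨U, V, hUV, hUZ, hn⟩ | h
  · exact ⟨U, V, hUV, hUZ.trans hZA, hZ2 U V hUZ, hn⟩
  by_contra hcon
  push Not at hcon
  set T := Cfsg.pCore p Y
  have hTp : IsPGroup p T := Core.pCore_isPGroup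
  set K := KInf.kerOn (G := Y) fun U V => U ≤ Z ∨ (Z ≤ V ∧ U ≤ A) with hKdef
  have hgK : g ∈ K := by
    rintro U V hUV (hU | ⟨hV, hU⟩)
    · exact hcon U V hUV (hU.trans hZA) (hZ2 U V hU)
    · exact hcon U V hUV hU (h U V hUV hV hU)
  refine hgT (Core.le_pCore (fun x => ?_) (show g ∈ K ⊓ L from ⟨hgK, hgL⟩))
  obtain ⟨a, ha⟩ := KInf.exists_pow_coprime (p := p) (x : Y)
  set k := (x : Y) ^ p ^ a with hk
  have hkK : k ∈ K := pow_mem x.2.1 _
  have hkL : k ∈ L := pow_mem x.2.2 _
  have h1 : ∀ z ∈ Z, k * z * k⁻¹ = z :=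
    KInf.centralizes_of_trivOn (Z₀ := (⊥ : Subgroup Y)) (hTp.to_le (hZA.trans hAT)) bot_le ha
      (fun w hw => by rw [mem_bot.mp hw, mul_one, mul_inv_cancel])
      fun U V hUV _ hU => hkK U V hUV (Or.inl hU)
  have h2 : ∀ z ∈ A, k * z * k⁻¹ = z := KInf.centralizes_of_trivOn (hTp.to_le hAT) hZA ha h1
    fun U V hUV hV hU => hkK U V hUV (Or.inr ⟨hV, hU⟩)
  have h3 := hA5 (MulAut.conjNormal k) (Nat.Coprime.coprime_dvd_left (orderOf_map_dvd _ k) ha)
    fun z hz => Subtype.ext (by rw [MulAut.conjNormal_apply]; exact h2 z hz)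
  have hkT : k ∈ T := hC ⟨mem_centralizer_iff.mpr fun z hz => by
    have h4 : k * z * k⁻¹ = z := by
      rw [← MulAut.conjNormal_apply k ⟨z, hz⟩, h3]; rfl
    exact (mul_inv_eq_iff_eq_mul.mp h4).symm, hkL⟩
  obtain ⟨b, hb⟩ := hTp ⟨k, hkT⟩
  refine ⟨a + b, Subtype.ext ?_⟩
  rw [pow_add, pow_mul, SubmonoidClass.coe_pow, SubmonoidClass.coe_pow]
  exact congrArg Subtype.val hb

variable {r : ℕ} [Fact r.Prime] {G R : Subgroup Y} [G.Normal]

/-- The automorphisms of an elementary abelian group as linear maps. -/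
noncomputable def autLin (p : ℕ) (W : Type u) [CommGroup W] [Module (ZMod p) (Additive W)] :
    MulAut W →* LinearMap.GeneralLinearGroup (ZMod p) (Additive W) :=
  MonoidHom.toHomUnits
    { toFun := fun g => AddMonoidHom.toZModLinearMap p (MonoidHom.toAdditive g.toMonoidHom)
      map_one' := LinearMap.ext fun _ => rfl
      map_mul' := fun _ _ => LinearMap.ext fun _ => rfl }

theorem autLin_apply {p : ℕ} {W : Type u} [CommGroup W] [Module (ZMod p) (Additive W)] (g : MulAut W)
    (x : Additive W) :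
    Additive.toMul ((autLin p W g : Module.End (ZMod p) (Additive W)) x) = g (Additive.toMul x) :=
  rfl

theorem autLin_injective {p : ℕ} {W : Type u} [CommGroup W] [Module (ZMod p) (Additive W)] :
    Function.Injective (autLin p W) := fun a b h => MulEquiv.ext fun w => by
  have h1 := autLin_apply (p := p) a (Additive.ofMul w)
  rw [h, autLin_apply] at h1
  exact h1.symm

/-- An element of all invariant Sylow subgroups which acts quadratically in an irreducible
representation over the prime field acts trivially. -/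
theorem eq_one_of_quadratic_rep (hp : 5 ≤ p) (hR : IsPGroup r R)
    (hcop : (Nat.card G).Coprime r) {V : Type u} [AddCommGroup V] [Module (ZMod p) V]
    [FiniteDimensional (ZMod p) V] [Nontrivial V]
    (Φ : Y →* LinearMap.GeneralLinearGroup (ZMod p) V)
    (hirr : ∀ S : AddSubgroup V,
      (∀ y : Y, ∀ v ∈ S, (Φ y : Module.End (ZMod p) V) v ∈ S) → S = ⊥ ∨ S = ⊤) {g : Y}
    (hg : InAllSyl p G R g)
    (hq : ∀ v : V, (Φ g : Module.End (ZMod p) V) ((Φ g : Module.End (ZMod p) V) v - v) =
      (Φ g : Module.End (ZMod p) V) v - v) : Φ g = 1 := by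
  haveI : Finite (LinearMap.GeneralLinearGroup (ZMod p) V) := finite_gl
  have hn : ∀ a ∈ R, conjBy G a = G := fun a _ =>
    conjBy_eq_self_of_forall fun x hx => (inferInstance : G.Normal).conj_mem x hx a
  have hGn : ∀ y : Y, conjBy (G.map Φ) (Φ y) = G.map Φ := fun y => by
    rw [conjBy_map, conjBy_eq_self_of_forall fun x hx =>
      (inferInstance : G.Normal).conj_mem x hx y]
  have hqq : ((Φ g : Module.End (ZMod p) V) - 1) * ((Φ g : Module.End (ZMod p) V) - 1) = 0 :=
    LinearMap.ext fun v => by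
      rw [Module.End.mul_apply, LinearMap.zero_apply, LinearMap.sub_apply, LinearMap.sub_apply,
        Module.End.one_apply, Module.End.one_apply, hq v, sub_self]
  have hd : Nat.card (G.map Φ) ∣ Nat.card G := card_map_dvd G Φ
  have hmem : Φ g ∈ opCore p (G.map Φ) :=
    quad_mem_opCore hp (hR.map Φ) (hcop.coprime_dvd_left hd)
      (by rintro _ ⟨a, -, rfl⟩; exact hGn a) (hg.map Φ hR hcop hn) hqq
  set O := opCore p (G.map Φ) with hO
  -- the fixed points of the p-core
  let S : AddSubgroup V :=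
    { carrier := {v | ∀ o ∈ O, (o : Module.End (ZMod p) V) v = v}
      zero_mem' := fun o _ => map_zero _
      add_mem' := fun {a b} ha hb o ho => by rw [map_add, ha o ho, hb o ho]
      neg_mem' := fun {a} ha o ho => by rw [map_neg, ha o ho] }
  have hS : ∀ y : Y, ∀ v ∈ S, (Φ y : Module.End (ZMod p) V) v ∈ S := by
    intro y v hv o ho
    have ho' : (Φ y)⁻¹ * o * Φ y ∈ O := mem_conjBy.mp ((conjBy_opCore (p := p) (hGn y)).symm ▸ ho)
    rw [← Module.End.mul_apply, ← Units.val_mul,
      show o * Φ y = Φ y * ((Φ y)⁻¹ * o * Φ y) by group, Units.val_mul, Module.End.mul_apply,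
      hv _ ho']
  rcases hirr S hS with h | h
  · obtain ⟨v, -, hv0, hv⟩ := exists_fixed_vector (opCore_isPGroup (p := p) (G.map Φ)) ⊤ top_ne_bot
      (fun o _ m _ => Submodule.mem_top)
    have hvS : v ∈ S := hv
    rw [h, AddSubgroup.mem_bot] at hvS
    exact absurd hvS hv0
  · exact Units.ext (LinearMap.ext fun v => (show v ∈ S from h ▸ AddSubgroup.mem_top v) _ hmem)

/-- An element of all invariant Sylow subgroups which acts quadratically on an irreducible
elementary abelian group acts trivially. -/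
theorem eq_one_of_quadratic_action (hp : 5 ≤ p) (hR : IsPGroup r R)
    (hcop : (Nat.card G).Coprime r) {W : Type u} [CommGroup W] [Finite W] [Nontrivial W]
    (hexp : ∀ w : W, w ^ p = 1) (ρ : Y →* MulAut W)
    (hirr : ∀ S : Subgroup W, (∀ y : Y, ∀ w ∈ S, ρ y w ∈ S) → S = ⊥ ∨ S = ⊤) {g : Y}
    (hg : InAllSyl p G R g) (hq : ∀ w : W, ρ g (ρ g w * w⁻¹) * (ρ g w * w⁻¹)⁻¹ = 1) :
    ρ g = 1 := by
  let md : Module (ZMod p) (Additive W) :=
    AddCommGroup.zmodModule fun x => Additive.toMul.injective (hexp (Additive.toMul x))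
  haveI : Finite (Additive W) := Finite.of_equiv W Additive.ofMul
  haveI hfd : @FiniteDimensional (ZMod p) (Additive W) _ Additive.addCommGroup md :=
    @Module.Finite.of_finite (ZMod p) (Additive W) _ _ md _
  haveI : Nontrivial (Additive W) := Additive.ofMul.injective.nontrivial
  have key := @eq_one_of_quadratic_rep Y _ _ p _ r _ G R _ hp hR hcop (Additive W)
    Additive.addCommGroup md hfd _ ((@autLin p W _ md).comp ρ) (fun S hS => by
      rcases hirr S.toSubgroup' (fun y w hw => hS y (Additive.ofMul w) hw) with h | h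
      · refine Or.inl ((AddSubgroup.eq_bot_iff_forall S).mpr fun x hx => ?_)
        have hx' : Additive.toMul x ∈ S.toSubgroup' := hx
        rw [h, mem_bot] at hx'
        exact Additive.toMul.injective hx'
      · refine Or.inr (eq_top_iff.mpr fun x _ => ?_)
        have hx' : Additive.toMul x ∈ S.toSubgroup' := h ▸ mem_top _
        exact hx') g hg (fun v => Additive.toMul.injective (by
      have h := mul_inv_eq_one.mp (hq (Additive.toMul v))
      rw [← div_eq_mul_inv] at h
      exact h))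
  exact (@autLin_injective p W _ md) (key.trans (map_one _).symm)

/-- An element of all invariant Sylow subgroups which is quadratic on a chief factor is trivial
on it. -/
theorem trivOn_of_quadratic (hp : 5 ≤ p) (hR : IsPGroup r R) (hcop : (Nat.card G).Coprime r)
    {U V : Subgroup Y} (hUV : Cfsg.IsChiefFactor U V) (hU : IsPGroup p U) {g : Y}
    (hg : InAllSyl p G R g) (hq : ⁅⁅U, zpowers g⁆, zpowers g⁆ ≤ V) : KInf.TrivOn g U V := by
  have hVn : V.Normal := hUV.2.2.1
  set f := QuotientGroup.mk' V with hf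
  set N := U.map f with hNdef
  have hmin := Control.isMinNormal_image hUV
  have hNn : N.Normal := hmin.normal
  obtain ⟨hcomm, hexp⟩ := Control.image_facts hUV hU
  letI : CommGroup N :=
    { (inferInstance : Group N) with mul_comm := fun a b => hcomm.is_comm.comm a b }
  haveI : Nontrivial N := (nontrivial_iff_ne_bot N).mpr hmin.ne_bot
  set ρ : Y →* MulAut N := (MulAut.conjNormal (H := N)).comp f with hρ
  have hval : ∀ (y : Y) (n : N), ((ρ y n : N) : Y ⧸ V) = f y * (n : Y ⧸ V) * (f y)⁻¹ :=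
    fun y n => MulAut.conjNormal_apply _ _
  have key : ρ g = 1 := by
    refine eq_one_of_quadratic_action (G := G) hp hR hcop (fun n => Subtype.ext (by
      rw [SubmonoidClass.coe_pow]; exact hexp _ n.2)) ρ ?_ hg ?_
    · intro S hS
      have hSn : (S.map N.subtype).Normal := by
        refine ⟨fun n hn c => ?_⟩
        obtain ⟨y, rfl⟩ := QuotientGroup.mk'_surjective V c
        obtain ⟨w, hw, rfl⟩ := hn
        exact ⟨ρ y w, hS y w hw, hval y w⟩
      rcases hmin.eq_of_le _ hSn (map_subtype_le S) with h | h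
      · exact Or.inl ((map_eq_bot_iff_of_injective _ N.subtype_injective).mp h)
      · refine Or.inr (map_injective N.subtype_injective ?_)
        rw [h, ← MonoidHom.range_eq_map, range_subtype]
    · intro n
      refine Subtype.ext ?_
      obtain ⟨u, hu, he⟩ := n.2
      simp only [Subgroup.coe_mul, Subgroup.coe_inv, hval, ← he]
      simp only [← map_mul, ← map_inv]
      refine (QuotientGroup.eq_one_iff _).mpr (hq ?_)
      have h1 : g * u * g⁻¹ * u⁻¹ ∈ ⁅U, zpowers g⁆ := by
        rw [← commutatorElement_def, ← commutatorElement_inv]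
        exact inv_mem (commutator_mem_commutator hu (mem_zpowers g))
      rw [← commutatorElement_def, ← commutatorElement_inv]
      exact inv_mem (commutator_mem_commutator h1 (mem_zpowers g))
  intro u hu
  have h := congrArg Subtype.val (DFunLike.congr_fun key ⟨f u, mem_map_of_mem f hu⟩)
  simp only [hval, MulAut.one_apply] at h
  refine (QuotientGroup.eq_one_iff _).mp ?_
  change f ⁅g, u⁆ = 1
  rw [map_commutatorElement, commutatorElement_def, mul_inv_eq_one]
  exact h

/-- The lower K-infinity subgroup of a group inside all invariant Sylow subgroups is normal. -/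
theorem kInf_normal (hp : 5 ≤ p) (hR : IsPGroup r R) (hcop : (Nat.card G).Coprime r)
    {P : Subgroup Y} (hPG : P ≤ G) (hTP : Cfsg.pCore p Y ≤ P)
    (hPall : ∀ g ∈ P, InAllSyl p G R g)
    (hC : centralizer (Cfsg.pCore p Y : Set Y) ⊓ G ≤ Cfsg.pCore p Y) :
    (Cfsg.inducedFunctor Cfsg.kInfLower P).Normal := by
  by_contra hK
  obtain ⟨A, hAT, hAn, -, hTA, -, hA5⟩ := KInf.exists_critical_pCore (G := Y) (p := p)
  set Z := A ⊓ centralizer (A : Set Y) with hZ
  obtain ⟨g, hgP, hgT, -, hZgg, hor⟩ :=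
    KInfGen.exists_cubic P hTP A Z hAT hZ hTA (Or.inl hK)
  obtain ⟨U, V, hUV, hUA, hq, hn⟩ :=
    exists_quadratic_factor_in G hAT inf_le_left hA5 hC (hPG hgP) hgT hZgg hor
  exact hn (trivOn_of_quadratic hp hR hcop hUV (Core.pCore_isPGroup.to_le (hUA.trans hAT))
    (hPall g hgP) hq)

end Cfsg.Agent.FlavellQuad
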