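import Cfsg.Agent.FlavellQuad.Canon

/-!
# A quadratic element in all invariant Sylow subgroups: the completely reducible generated case
-/

set_option autoImplicit false

namespace Cfsg.Agent.FlavellQuad

open Cfsg
open Cfsg.Agent.RootSub Cfsg.Agent.RootSub.Quad

variable {p : ℕ} [Fact p.Prime] {M : Type*} [AddCommGroup M] [Module (ZMod p) M]
variable [FiniteDimensional (ZMod p) M]

local notation "𝔾" => LinearMap.GeneralLinearGroup (ZMod p) M
local notation "𝔼" => Module.End (ZMod p) M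

variable {G : Subgroup (LinearMap.GeneralLinearGroup (ZMod p) M)}

theorem exists_isMin {q : 𝔼} (hq : IsQuad G q) : ∃ a, IsMin G a := by
  classical
  have h : ∃ n, ∃ b, IsQuad G b ∧ Module.finrank (ZMod p) (LinearMap.range b) = n :=
    ⟨_, q, hq, rfl⟩
  obtain ⟨a, ha, he⟩ := Nat.find_spec h
  exact ⟨a, ha, fun b hb => he.le.trans (Nat.find_le ⟨b, hb, rfl⟩)⟩

theorem conjBy_coreGroup {u : 𝔾} (hu : conjBy G u = G) :
    conjBy (coreGroup G) u = coreGroup G := by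
  have hle : ∀ v : 𝔾, conjBy G v = G → conjBy (coreGroup G) v ≤ coreGroup G := fun v hv =>
    Subgroup.map_le_iff_le_comap.mpr (iSup₂_le fun A hA =>
      Subgroup.map_le_iff_le_comap.mp (le_coreGroup (sigma_conjN hv hA)))
  refine le_antisymm (hle u hu) ?_
  have h := conjBy_mono (hle _ (conjBy_inv_eq hu)) u
  rwa [conjBy_cancel_inv] at h

section

variable (hp : 5 ≤ p) (hpure : NoUnipNormal G)

include hp hpure

/-- The part of a quadratic element in one component. -/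
theorem exists_decomp {A₀ : Subgroup 𝔾} {q : 𝔼} (hq : IsQuad G q) :
    ∃ u₁ ∈ compGroup G A₀,
      ∃ u₂ ∈ G ⊓ Subgroup.centralizer (compGroup G A₀ : Set 𝔾),
        u₁ * u₂ = oneAddUnit q hq.sq ∧ LinearMap.range ((u₁ : 𝔼) - 1) ≤ LinearMap.range q ∧
          LinearMap.ker q ≤ LinearMap.ker ((u₁ : 𝔼) - 1) := by
  suffices H : ∀ n, ∀ q : 𝔼, ∀ hq : IsQuad G q,
      Module.finrank (ZMod p) (LinearMap.range q) = n →
      ∃ u₁ ∈ compGroup G A₀,
        ∃ u₂ ∈ G ⊓ Subgroup.centralizer (compGroup G A₀ : Set 𝔾),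
          u₁ * u₂ = oneAddUnit q hq.sq ∧ LinearMap.range ((u₁ : 𝔼) - 1) ≤ LinearMap.range q ∧
            LinearMap.ker q ≤ LinearMap.ker ((u₁ : 𝔼) - 1) from H _ q hq rfl
  intro n
  induction n using Nat.strong_induction_on with
  | _ n ih =>
    intro q hq hn
    by_cases hall : ∀ z, IsMin G z → IsNilpotent (z * q)
    · refine ⟨1, one_mem _, _, ⟨hq.unit_mem, ?_⟩, one_mul _, by simp, by simp⟩
      refine Subgroup.centralizer_le (SetLike.coe_subset_coe.mpr compGroup_le_core)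
        (mem_centralizer_coreGroup fun a ha => ?_)
      rw [coe_oneAddUnit, add_sub_cancel_left]
      exact commute_of_all_nilpotent (two_ne hp) (card_ne_three hp) hpure hq hall ha
    push Not at hall
    obtain ⟨a, ha, haq⟩ := hall
    obtain ⟨y, hy, hyr, -, hrq, hlt, -, -, hyrange, hyker⟩ :=
      exists_min_split_ext (two_ne hp) (card_ne_three hp) ha hq haq
    set ε := oneAddUnit y hy.sq with hεdef
    have hεy : ((ε : 𝔾) : 𝔼) - 1 = y := by rw [hεdef, coe_oneAddUnit, add_sub_cancel_left]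
    -- the remainder
    obtain ⟨r₁, hr₁, r₂, hr₂, hr, hr₁r, hr₁k⟩ : ∃ r₁ ∈ compGroup G A₀,
        ∃ r₂ ∈ G ⊓ Subgroup.centralizer (compGroup G A₀ : Set 𝔾),
          ε * (r₁ * r₂) = oneAddUnit q hq.sq ∧ LinearMap.range ((r₁ : 𝔼) - 1) ≤ LinearMap.range q ∧
            LinearMap.ker q ≤ LinearMap.ker ((r₁ : 𝔼) - 1) := by
      rcases eq_or_ne (q - y) 0 with h0 | h0
      · refine ⟨1, one_mem _, 1, one_mem _, ?_, by simp, by simp⟩
        refine Units.ext ?_
        rw [mul_one, mul_one, hεdef, coe_oneAddUnit, coe_oneAddUnit, sub_eq_zero.mp h0]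
      · have hr := hrq h0
        obtain ⟨r₁, hr₁, r₂, hr₂, he, hrr, hrk⟩ := ih _ (hn ▸ hlt) (q - y) hr rfl
        refine ⟨r₁, hr₁, r₂, hr₂, ?_, hrr.trans ?_, le_trans ?_ hrk⟩
        · refine Units.ext ?_
          rw [he, Units.val_mul, hεdef, coe_oneAddUnit, coe_oneAddUnit, coe_oneAddUnit, add_mul,
            mul_add, mul_add, one_mul, one_mul, mul_one, hyr]
          abel
        · rintro _ ⟨m, rfl⟩
          rw [LinearMap.sub_apply]
          exact sub_mem ⟨m, rfl⟩ (hyrange ⟨m, rfl⟩)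
        · intro m hm
          rw [LinearMap.mem_ker, LinearMap.sub_apply, LinearMap.mem_ker.mp hm,
            LinearMap.mem_ker.mp (hyker hm), sub_zero]
    by_cases hc : Conn G A₀ (rootGroup G y)
    · refine ⟨ε * r₁, mul_mem (le_compGroup ⟨hy.mem_sigma, hc⟩
        (oneAddUnit_mem hy.self_mem hy.sq)) hr₁, r₂, hr₂, by rw [mul_assoc, hr], ?_, ?_⟩
      all_goals
        have he : ((ε * r₁ : 𝔾) : 𝔼) - 1 =
            y + ((r₁ : 𝔼) - 1) + y * ((r₁ : 𝔼) - 1) := by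
          rw [Units.val_mul, hεdef, coe_oneAddUnit]; noncomm_ring
        rw [he]
      · rintro _ ⟨m, rfl⟩
        rw [LinearMap.add_apply, LinearMap.add_apply, Module.End.mul_apply]
        exact add_mem (add_mem (hyrange ⟨m, rfl⟩) (hr₁r ⟨m, rfl⟩)) (hyrange ⟨_, rfl⟩)
      · intro m hm
        rw [LinearMap.mem_ker, LinearMap.add_apply, LinearMap.add_apply, Module.End.mul_apply,
          LinearMap.mem_ker.mp (hr₁k hm), LinearMap.mem_ker.mp (hyker hm), map_zero, add_zero,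
          add_zero]
    · have hcomm := Subgroup.commutator_eq_bot_iff_le_centralizer.mp
        (compGroup_commute (two_ne hp) (card_ne_three hp) hpure hc)
      have hεc : ∀ k ∈ compGroup G A₀, ε * k = k * ε := fun k hk =>
        Subgroup.mem_centralizer_iff.mp (hcomm hk) ε
          (le_compGroup (self_mem_compSet hy.mem_sigma) (oneAddUnit_mem hy.self_mem hy.sq))
      refine ⟨r₁, hr₁, ε * r₂, ⟨mul_mem hy.unit_mem hr₂.1, mul_mem ?_ hr₂.2⟩, ?_, hr₁r, hr₁k⟩
      · exact Subgroup.mem_centralizer_iff.mpr fun k hk => (hεc k hk).symm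
      · rw [← mul_assoc, ← hεc r₁ hr₁, mul_assoc, hr]

end

variable {r : ℕ} [Fact r.Prime] {R : Subgroup (LinearMap.GeneralLinearGroup (ZMod p) M)}

section

variable (hp : 5 ≤ p) (hpure : NoUnipNormal G)
  (hgen : Subgroup.closure (quadraticElements G) = G) (hR : IsPGroup r R)
  (hcop : (Nat.card G).Coprime r) (hn : ∀ a ∈ R, conjBy G a = G)

include hp hpure hgen hR hcop hn

omit hR hcop hn in
theorem stabSet_conj {𝒜 : Set (Subgroup 𝔾)} {c : 𝔾} (hc : c ∈ G) :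
    stabSet G ((fun A => conjBy A c) '' 𝒜) = conjBy (stabSet G 𝒜) c := by
  ext g
  rw [mem_conjBy, mem_stabSet, mem_stabSet]
  constructor
  · rintro ⟨hg, hfix⟩
    refine ⟨mul_mem (mul_mem (inv_mem hc) hg) hc, fun A hA => ?_⟩
    rw [← conjBy_conjBy, ← conjBy_conjBy, hfix _ ⟨A, hA, rfl⟩, conjBy_inv_cancel]
  · rintro ⟨hg, hfix⟩
    refine ⟨by simpa [mul_assoc] using mul_mem (mul_mem hc hg) (inv_mem hc), ?_⟩
    rintro _ ⟨A, hA, rfl⟩
    rw [conjBy_conjBy, show g * c = c * (c⁻¹ * g * c) by group, ← conjBy_conjBy, hfix A hA]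

/-- The component case. -/
theorem component_case (hss : IsSemisimpleFor G)
    (IH : ∀ L ≤ G, L ≠ G → (∀ a ∈ R, conjBy L a = L) → ∀ x : 𝔾, InAllSyl p L R x →
      ((x : 𝔼) - 1) * ((x : 𝔼) - 1) = 0 → x ∈ opCore p L)
    {x : 𝔾} (hx : InAllSyl p G R x) (hxq : ((x : 𝔼) - 1) * ((x : 𝔼) - 1) = 0)
    {A₀ : Subgroup 𝔾} (hA₀ : A₀ ∈ quadraticRootSubgroups G) (hxK : x ∈ compGroup G A₀) :
    x = 1 := by
  classical
  haveI : Finite 𝔾 := finite_gl
  have h2 := two_ne hp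
  have h3 := card_ne_three hp
  have hpr : p ≠ r := by
    rintro rfl
    obtain ⟨a, ha, -⟩ := mem_quadraticRootSubgroups.mp hA₀
    have hd : p ∣ Nat.card G := by
      have : orderOf (oneAddUnit a ha.sq) = p := orderOf_eq_prime (oneAdd_pow_p ha.sq) fun h =>
        ha.ne_zero (by
          have := congrArg Units.val h
          rwa [coe_oneAddUnit, Units.val_one, add_eq_left] at this)
      calc p = orderOf (⟨_, ha.unit_mem⟩ : G) := by rw [← Subgroup.orderOf_coe]; exact this.symm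
        _ ∣ Nat.card G := orderOf_dvd_natCard _
    exact (Fact.out : p.Prime).one_lt.ne'
      (Nat.dvd_one.mp (hcop ▸ Nat.dvd_gcd hd dvd_rfl))
  obtain ⟨S₀, hS₀, -, hS₀R⟩ := exists_inv_syl (p := p) hR hcop hn bot_le IsPGroup.of_bot
    (fun a _ => conjBy_bot a)
  set 𝒜 := canon G S₀
  have h𝒜 : IsTransversal G 𝒜 := canon_transversal hp hpure hgen hS₀
  have hperm : ∀ a ∈ R, ∀ A ∈ 𝒜, conjBy A a ∈ 𝒜 := fun a ha A hA =>
    canon_conjN (hn a ha) (hS₀R a ha) hA
  set N := stabSet G 𝒜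
  have hNR : ∀ a ∈ R, conjBy N a = N := fun a ha => conjBy_eq_self_of_forall fun g hg => by
    obtain ⟨hgG, hfix⟩ := mem_stabSet.mp hg
    refine mem_stabSet.mpr ⟨hn a ha ▸ conjBy_mem hgG a, fun A hA => ?_⟩
    rw [← conjBy_conjBy, ← conjBy_conjBy, hfix _ (hperm _ (inv_mem ha) A hA), conjBy_cancel_inv]
  have hS₀N : S₀ ≤ N := fun g hg =>
    mem_stabSet.mpr ⟨hS₀.1 hg, canon_fix hp hpure hgen hS₀ hg⟩
  obtain ⟨A, hA, hAA₀⟩ := exists_canon hp hpure hgen hS₀ hA₀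
  have hxA : x ∈ compGroup G A := compGroup_eq_of_conn hAA₀.2 ▸ hxK
  -- every member has an opposite conjugate inside its component
  have hex : ∀ B ∈ 𝒜, ∃ w ∈ compGroup G B, FAdj (quadraticRootSubgroups G) B (conjBy B w) := by
    intro B hB
    obtain ⟨b, hb, rfl⟩ := mem_quadraticRootSubgroups.mp (h𝒜.sub hB)
    obtain ⟨g, hg, hopp⟩ := exists_opposite h2 h3 hpure hb
    obtain ⟨w, hw, he⟩ := exists_conj_opposite_mem h2 h3 hb (hb.conj hg) hopp
    refine ⟨w, ?_, he.symm ▸ fadj_of_opp h2 h3 hb (hb.conj hg) hopp⟩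
    exact (sup_le (le_compGroup (self_mem_compSet hb.mem_sigma))
      (le_compGroup_opp hp hb (hb.conj hg) hopp)) hw
  -- the stabiliser is proper
  have hne : ∀ B C : Subgroup 𝔾, FAdj (quadraticRootSubgroups G) B C → B ≠ C := by
    intro B C hBC he
    obtain ⟨b, hb, rfl⟩ := mem_quadraticRootSubgroups.mp hBC.1
    have hopp := isOpp_of_rankOne h2 h3 hb hb hpure (by
      have := hBC.2.2
      rwa [← he] at this)
    exact hopp ⟨1, by rw [pow_one, hb.sq]⟩
  have hNne : N ≠ G := fun he => by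
    obtain ⟨w, hw, hadj⟩ := hex A hA
    exact hne _ _ hadj ((mem_stabSet.mp (he.symm ▸ compGroup_le hw : w ∈ N)).2 A hA).symm
  have hxN : x ∈ N := hS₀N (hx S₀ hS₀ hS₀R)
  have hxO : x ∈ opCore p N :=
    IH N (stabSet_le _) hNne hNR x (hx.restrict hR hcop hn (stabSet_le _) hxN) hxq
  set O := opCore p N
  -- opposite families
  let Ω : Set (Set (Subgroup 𝔾)) := {ℬ | ∃ k ∈ G, ℬ = (fun B => conjBy B k) '' 𝒜 ∧
    ∀ B ∈ 𝒜, FAdj (quadraticRootSubgroups G) B (conjBy B k)}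
  let act : 𝔾 → Set (Subgroup 𝔾) → Set (Subgroup 𝔾) := fun g ℬ => (fun B => conjBy B g) '' ℬ
  obtain ⟨k₀, hk₀, hk₀adj⟩ : ∃ k ∈ G, ∀ B ∈ 𝒜,
      FAdj (quadraticRootSubgroups G) B (conjBy B k) := by
    choose! w hw using hex
    obtain ⟨k, hk, hke⟩ := exists_glue hp hpure h𝒜 G (fun B => B)
      (fun B hB => self_mem_compSet (h𝒜.sub hB)) w
      (fun B hB => ⟨compGroup_le (hw B hB).1, (hw B hB).1⟩)
    exact ⟨k, hk, fun B hB => by rw [hke B hB]; exact (hw B hB).2⟩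
  have hw₀ : (fun B => conjBy B k₀) '' 𝒜 ∈ Ω := ⟨k₀, hk₀, rfl, hk₀adj⟩
  have hOΩ : ∀ o ∈ O, ∀ ℬ ∈ Ω, act o ℬ ∈ Ω := by
    rintro o ho _ ⟨k, hk, rfl, hadj⟩
    obtain ⟨hoG, hofix⟩ := mem_stabSet.mp (opCore_le N ho)
    refine ⟨o * k, mul_mem hoG hk, ?_, fun B hB => ?_⟩
    · show _ '' (_ '' 𝒜) = _
      rw [Set.image_image]
      exact Set.image_congr fun B _ => conjBy_conjBy B o k
    · have := fadj_conj h2 h3 (hadj B hB) hpure hoG
      rwa [hofix B hB, conjBy_conjBy] at this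
  have htr : ∀ ℬ ∈ Ω, ∃ o ∈ O, act o ((fun B => conjBy B k₀) '' 𝒜) = ℬ := by
    rintro _ ⟨k, hk, rfl, hadj⟩
    have hq : ∀ B ∈ 𝒜, ∃ o, (o ∈ O ∧ o ∈ compGroup G B) ∧
        conjBy (conjBy B k₀) o = conjBy B k := by
      intro B hB
      obtain ⟨b, hb, rfl⟩ := mem_quadraticRootSubgroups.mp (h𝒜.sub hB)
      have e0 : conjBy (rootGroup G b) k₀ = rootGroup G (conjEnd k₀ b) := conjBy_rootGroup hk₀
      have e1 : conjBy (rootGroup G b) k = rootGroup G (conjEnd k b) := conjBy_rootGroup hk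
      have o0 := isOpp_of_rankOne h2 h3 hb (hb.conj hk₀) hpure (e0 ▸ (hk₀adj _ hB).2.2)
      have o1 := isOpp_of_rankOne h2 h3 hb (hb.conj hk) hpure (e1 ▸ (hadj _ hB).2.2)
      obtain ⟨q, hq, hqe⟩ := exists_qK_conj hp hb (hb.conj hk₀) o0 (hb.conj hk) o1
      exact ⟨q, ⟨qK_le_opCore hp hpure hgen h𝒜 hb hB hq, qK_le_compGroup b hq⟩,
        by rw [e0, e1, hqe]⟩
    choose! o ho using hq
    obtain ⟨o', ho', hoe⟩ := exists_glue hp hpure h𝒜 O (fun B => conjBy B k₀)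
      (fun B hB => ⟨conj_mem_sigma (h𝒜.sub hB) hk₀, Relation.ReflTransGen.single (hk₀adj B hB)⟩)
      o (fun B hB => (ho B hB).1)
    refine ⟨o', ho', ?_⟩
    show _ '' (_ '' 𝒜) = _
    rw [Set.image_image]
    exact Set.image_congr fun B hB => (hoe B hB).trans (ho B hB).2
  have hRΩ : ∀ a ∈ R, ∀ ℬ ∈ Ω, act a ℬ ∈ Ω := by
    rintro a ha _ ⟨k, hk, rfl, hadj⟩
    have e : ∀ B : Subgroup 𝔾,
        conjBy (conjBy B k) a = conjBy (conjBy B a) (a * k * a⁻¹) := fun B => by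
      rw [conjBy_conjBy, conjBy_conjBy]; group
    refine ⟨a * k * a⁻¹, hn a ha ▸ conjBy_mem hk a, ?_, fun B hB => ?_⟩
    · show _ '' (_ '' 𝒜) = _
      rw [Set.image_image]
      ext D
      constructor
      · rintro ⟨B, hB, rfl⟩
        exact ⟨conjBy B a, hperm a ha B hB, (e B).symm⟩
      · rintro ⟨B, hB, rfl⟩
        refine ⟨conjBy B a⁻¹, hperm _ (inv_mem ha) B hB, ?_⟩
        show conjBy (conjBy (conjBy B a⁻¹) k) a = conjBy B (a * k * a⁻¹)
        rw [e, conjBy_cancel_inv]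
    · obtain ⟨h1, h1', h1''⟩ := hadj _ (hperm _ (inv_mem ha) B hB)
      have hB' : conjBy B (a * k * a⁻¹) = conjBy (conjBy (conjBy B a⁻¹) k) a := by
        rw [e, conjBy_cancel_inv]
      rw [hB']
      refine ⟨h𝒜.sub hB, sigma_conjN (hn a ha) h1', ?_⟩
      have := RankOne.conj_pair h1'' a
      rwa [conjBy_cancel_inv] at this
  obtain ⟨ℬ, ⟨c, hc, rfl, hcadj⟩, hfix⟩ := exists_fixed act
    (fun ℬ => by show _ '' ℬ = ℬ; simp [conjBy_one])
    (fun g h ℬ => by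
      show _ '' ℬ = _ '' (_ '' ℬ)
      rw [Set.image_image]
      exact Set.image_congr fun B _ => (conjBy_conjBy B g h).symm)
    (opCore_isPGroup N) hR hpr hw₀ hOΩ htr hRΩ
  set 𝒞 := (fun B => conjBy B c) '' 𝒜
  have h𝒞 : IsTransversal G 𝒞 := by
    refine ⟨?_, ?_⟩
    · rintro _ ⟨B, hB, rfl⟩
      exact conj_mem_sigma (h𝒜.sub hB) hc
    · rintro _ ⟨B, hB, rfl⟩ _ ⟨B', hB', rfl⟩ hconn
      have := Conn.conj h2 h3 hpure hconn (inv_mem hc)
      rw [conjBy_inv_cancel, conjBy_inv_cancel] at this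
      exact congrArg (fun D => conjBy D c) (h𝒜.eq_of_conn B hB B' hB' this)
  set N' := stabSet G 𝒞
  have hN' : N' = conjBy N c := stabSet_conj hp hpure hgen hc
  have hcardN : Nat.card N' = Nat.card N := by
    rw [hN']; exact Subgroup.card_map_of_injective (MulAut.conj c).injective
  have hN'R : ∀ a ∈ R, conjBy N' a = N' := fun a ha => conjBy_eq_self_of_forall fun g hg => by
    obtain ⟨hgG, hgfix⟩ := mem_stabSet.mp hg
    refine mem_stabSet.mpr ⟨hn a ha ▸ conjBy_mem hgG a, fun B hB => ?_⟩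
    have hB' : conjBy B a⁻¹ ∈ 𝒞 := by
      have h := hfix a⁻¹ (inv_mem ha)
      exact h.le ⟨B, hB, rfl⟩
    rw [← conjBy_conjBy, ← conjBy_conjBy, hgfix _ hB', conjBy_cancel_inv]
  have hN'ne : N' ≠ G := fun he => hNne (by
    have h : conjBy N c = conjBy G c := by rw [← hN', he, conjBy_mem_self hc]
    exact conjBy_injective c h)
  have hxN' : x ∈ N' := by
    obtain ⟨T, hT, -, hTR⟩ := exists_inv_syl (p := p) hR
      (hcop.coprime_dvd_left (Subgroup.card_dvd_of_le (stabSet_le 𝒞))) hN'R bot_le IsPGroup.of_bot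
      (fun a _ => conjBy_bot a)
    refine hT.1 (hx T ⟨hT.1.trans (stabSet_le _), le_antisymm
      (isPGroup_dvd hT.isPGroup (hT.1.trans (stabSet_le _))) ?_⟩ hTR)
    rw [hT.2, hcardN, ← hS₀.2]
    exact isPGroup_dvd hS₀.isPGroup hS₀N
  have hxO' : x ∈ opCore p N' :=
    IH N' (stabSet_le _) hN'ne hN'R x (hx.restrict hR hcop hn (stabSet_le _) hxN') hxq
  obtain ⟨a, ha, rfl⟩ := mem_quadraticRootSubgroups.mp hA.1
  have hB : rootGroup G (conjEnd c a) ∈ 𝒞 := ⟨_, hA, conjBy_rootGroup hc⟩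
  have hab : IsOpp a (conjEnd c a) := isOpp_of_rankOne h2 h3 ha (ha.conj hc) hpure
    (conjBy_rootGroup (G := G) (a := a) hc ▸ (hcadj _ hA).2.2)
  refine no_quadratic hp hpure hgen hss ha (ha.conj hc) hab hxA hxq
    (P₀ := opCore p N ⊓ compGroup G (rootGroup G a))
    (P₁ := opCore p N' ⊓ compGroup G (rootGroup G (conjEnd c a)))
    ((opCore_isPGroup N).to_le inf_le_left) (inf_le_right.trans compGroup_le)
    (fun g hg => (mem_stabSet.mp (opCore_le N hg.1)).2 _ hA)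
    (fun g hg hgA => core_component hp hpure hgen h𝒜 hA hg hgA) ⟨hxO, hxA⟩
    ((opCore_isPGroup N').to_le inf_le_left) (inf_le_right.trans compGroup_le)
    (fun g hg => (mem_stabSet.mp (opCore_le N' hg.1)).2 _ hB)
    (fun g hg hgA => core_component hp hpure hgen h𝒞 hB hg hgA) ⟨hxO', ?_⟩
  rwa [compGroup_opp hp ha (ha.conj hc) hab]

end

end Cfsg.Agent.FlavellQuad
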