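import Cfsg.Prelude.Def_RootSubgroups
import Cfsg.Agent.RootSub.Basic
import Cfsg.Agent.Coprime.Basic
import Cfsg.Agent.Core.PCore

/-!
# Invariant Sylow subgroups and p-cores of subgroups of a finite group
-/

set_option autoImplicit false

namespace Cfsg.Agent.FlavellQuad

open Cfsg Subgroup
open Cfsg.Agent.RootSub

variable {X : Type*} [Group X] {p r : ℕ} [Fact p.Prime]

theorem conjBy_eq_self_of_forall {G : Subgroup X} [Finite X] {g : X}
    (h : ∀ x ∈ G, g * x * g⁻¹ ∈ G) : conjBy G g = G := by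
  refine Subgroup.eq_of_le_of_card_ge ?_ ?_
  · rintro _ ⟨x, hx, rfl⟩
    exact h x hx
  · exact le_of_eq (Subgroup.card_map_of_injective (MulAut.conj g).injective).symm

/-- A Sylow p-subgroup of a subgroup. -/
def IsSyl (p : ℕ) (G S : Subgroup X) : Prop :=
  S ≤ G ∧ Nat.card S = p ^ (Nat.card G).factorization p

theorem IsSyl.isPGroup {G S : Subgroup X} (h : IsSyl p G S) : IsPGroup p S :=
  IsPGroup.of_card h.2

variable [Finite X]

theorem isPGroup_dvd {G T : Subgroup X} (hT : IsPGroup p T) (hTG : T ≤ G) :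
    Nat.card T ≤ p ^ (Nat.card G).factorization p := by
  obtain ⟨n, hn⟩ := IsPGroup.iff_card.mp hT
  rw [hn]
  refine Nat.pow_le_pow_right (Fact.out : p.Prime).pos ?_
  exact ((Fact.out : p.Prime).pow_dvd_iff_le_factorization Nat.card_pos.ne').mp
    (hn ▸ card_dvd_of_le hTG)

theorem IsSyl.eq_of_le {G S T : Subgroup X} (h : IsSyl p G S) (hT : IsPGroup p T) (hTG : T ≤ G)
    (hST : S ≤ T) : S = T :=
  Subgroup.eq_of_le_of_card_ge hST (h.2 ▸ isPGroup_dvd hT hTG)

theorem isSyl_map {G : Subgroup X} (P : Sylow p G) :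
    IsSyl p G ((P : Subgroup G).map G.subtype) :=
  ⟨map_subtype_le _, by
    rw [card_map_of_injective G.subtype_injective, P.card_eq_multiplicity]⟩

theorem exists_isSyl_ge {G T : Subgroup X} (hT : IsPGroup p T) (hTG : T ≤ G) :
    ∃ S, IsSyl p G S ∧ T ≤ S := by
  obtain ⟨P, hP⟩ := (IsPGroup.of_equiv hT (subgroupOfEquivOfLe hTG).symm).exists_le_sylow
  refine ⟨_, isSyl_map P, ?_⟩
  have := map_mono (f := G.subtype) hP
  rwa [map_subgroupOf_eq_of_le hTG] at this

theorem IsSyl.conjBy {G S : Subgroup X} (h : IsSyl p G S) {g : X} (hg : Cfsg.conjBy G g = G) :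
    IsSyl p G (Cfsg.conjBy S g) :=
  ⟨(conjBy_mono h.1 g).trans hg.le, by
    rw [← h.2]; exact Subgroup.card_map_of_injective (MulAut.conj g).injective⟩

theorem IsSyl.exists_conj {G S T : Subgroup X} (h : IsSyl p G S) (hT : IsPGroup p T)
    (hTG : T ≤ G) : ∃ g ∈ G, T ≤ Cfsg.conjBy S g := by
  obtain ⟨P, hP⟩ := (IsPGroup.of_equiv hT (subgroupOfEquivOfLe hTG).symm).exists_le_sylow
  let Q : Sylow p G := Sylow.ofCard (S.subgroupOf G) (by
    rw [Nat.card_congr (subgroupOfEquivOfLe h.1).toEquiv]; exact h.2)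
  obtain ⟨g, hg⟩ := MulAction.exists_smul_eq G Q P
  refine ⟨g, g.2, fun t ht => ?_⟩
  have h1 : (⟨t, hTG ht⟩ : G) ∈ (P : Subgroup G) := hP (mem_subgroupOf.mpr ht)
  rw [← hg, Sylow.coe_subgroup_smul, mem_pointwise_smul_iff_inv_smul_mem] at h1
  rw [mem_conjBy]
  simpa [Q, mem_subgroupOf] using h1

/-- The p-core of a subgroup, as a subgroup of the ambient group. -/
def opCore (p : ℕ) (G : Subgroup X) : Subgroup X := (Cfsg.pCore p G).map G.subtype

theorem opCore_le (G : Subgroup X) : opCore p G ≤ G := map_subtype_le _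

theorem opCore_isPGroup (G : Subgroup X) : IsPGroup p (opCore p G) :=
  (Core.pCore_isPGroup (p := p) (G := G)).map _

theorem le_opCore {G U : Subgroup X} (hUG : U ≤ G) (hU : IsPGroup p U)
    (hn : ∀ g ∈ G, conjBy U g = U) : U ≤ opCore p G := by
  have : (U.subgroupOf G).Normal := normal_subgroupOf_of_le_normalizer fun g hg =>
    conjBy_eq_self_iff.mp (hn g hg)
  have h := Core.le_pCore (p := p) (N := U.subgroupOf G)
    (IsPGroup.of_equiv hU (subgroupOfEquivOfLe hUG).symm)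
  rw [← map_subgroupOf_eq_of_le hUG]
  exact map_mono h

theorem conjBy_opCore_self {G : Subgroup X} {g : X} (hg : g ∈ G) :
    conjBy (opCore p G) g = opCore p G := by
  refine conjBy_eq_self_of_forall fun x hx => ?_
  obtain ⟨y, hy, rfl⟩ := hx
  exact ⟨⟨g, hg⟩ * y * ⟨g, hg⟩⁻¹, ((inferInstance : (Cfsg.pCore p G).Normal)).conj_mem y hy _, rfl⟩

theorem conjBy_opCore {G : Subgroup X} {u : X} (hu : conjBy G u = G) :
    conjBy (opCore p G) u = opCore p G := by
  have hle : conjBy (opCore p G) u ≤ opCore p G := by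
    refine le_opCore ((conjBy_mono (opCore_le G) u).trans hu.le) ((opCore_isPGroup G).map _) ?_
    intro g hg
    have hg' : u⁻¹ * g * u ∈ G := mem_conjBy.mp (hu.symm ▸ hg)
    calc conjBy (conjBy (opCore p G) u) g = conjBy (conjBy (opCore p G) (u⁻¹ * g * u)) u := by
          rw [conjBy_conjBy, conjBy_conjBy]; group
      _ = conjBy (opCore p G) u := by rw [conjBy_opCore_self hg']
  refine Subgroup.eq_of_le_of_card_ge hle (le_of_eq ?_)
  exact (Subgroup.card_map_of_injective (MulAut.conj u).injective).symm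

theorem opCore_le_isSyl {G S : Subgroup X} (h : IsSyl p G S) : opCore p G ≤ S := by
  obtain ⟨g, hg, hle⟩ := h.exists_conj (opCore_isPGroup G) (opCore_le G)
  have := conjBy_mono hle g⁻¹
  rwa [conjBy_inv_cancel, conjBy_opCore_self (inv_mem hg)] at this

/-! ### Sylow subgroups invariant under an r-group -/

variable [Fact r.Prime] {R : Subgroup X}

theorem coprime_card {G : Subgroup X} (hR : IsPGroup r R) (hcop : (Nat.card G).Coprime r) :
    (Nat.card R).Coprime (Nat.card G) := by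
  obtain ⟨n, hn⟩ := IsPGroup.iff_card.mp hR
  rw [hn]
  exact (hcop.pow_right n).symm

theorem exists_inv_syl {G U : Subgroup X} (hR : IsPGroup r R)
    (hcop : (Nat.card G).Coprime r) (hn : ∀ a ∈ R, conjBy G a = G) (hUG : U ≤ G)
    (hU : IsPGroup p U) (hUn : ∀ a ∈ R, conjBy U a = U) :
    ∃ S, IsSyl p G S ∧ U ≤ S ∧ ∀ a ∈ R, conjBy S a = S := by
  have : Group.IsNilpotent R := hR.isNilpotent
  obtain ⟨P, hP, hPn⟩ := Coprime.exists_le_invariant_sylow
    (fun a ha => conjBy_eq_self_iff.mp (hn a ha)) (coprime_card hR hcop)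
    (Or.inl inferInstance) hUG hU (fun a ha => conjBy_eq_self_iff.mp (hUn a ha))
  exact ⟨_, isSyl_map P, hP, fun a ha => conjBy_eq_self_iff.mpr (hPn ha)⟩

theorem conjBy_bot (g : X) : conjBy (⊥ : Subgroup X) g = ⊥ := Subgroup.map_bot _

/-- The element x lies in every R-invariant Sylow p-subgroup of G. -/
def InAllSyl (p : ℕ) (G R : Subgroup X) (x : X) : Prop :=
  ∀ S, IsSyl p G S → (∀ a ∈ R, conjBy S a = S) → x ∈ S

theorem InAllSyl.mem {G : Subgroup X} (hR : IsPGroup r R) (hcop : (Nat.card G).Coprime r)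
    (hn : ∀ a ∈ R, conjBy G a = G) {x : X} (hx : InAllSyl p G R x) : x ∈ G := by
  obtain ⟨S, hS, -, hSn⟩ := exists_inv_syl (p := p) hR hcop hn bot_le IsPGroup.of_bot
    (fun a _ => conjBy_bot a)
  exact hS.1 (hx S hS hSn)

theorem InAllSyl.restrict {G L : Subgroup X} (hR : IsPGroup r R) (hcop : (Nat.card G).Coprime r)
    (hn : ∀ a ∈ R, conjBy G a = G) {x : X} (hx : InAllSyl p G R x) (hLG : L ≤ G) (hxL : x ∈ L) :
    InAllSyl p L R x := by
  intro T hT hTn
  obtain ⟨S, hS, hTS, hSn⟩ := exists_inv_syl hR hcop hn (hT.1.trans hLG) hT.isPGroup hTn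
  have : T = S ⊓ L := hT.eq_of_le (hS.isPGroup.to_le inf_le_left) inf_le_right (le_inf hTS hT.1)
  rw [this]
  exact ⟨hx S hS hSn, hxL⟩

/-- Images of elements of all invariant Sylow subgroups. -/
theorem InAllSyl.map {Y : Type*} [Group Y] [Finite Y] (f : X →* Y) {G : Subgroup X}
    (hR : IsPGroup r R) (hcop : (Nat.card G).Coprime r) (hn : ∀ a ∈ R, conjBy G a = G) {x : X}
    (hx : InAllSyl p G R x) : InAllSyl p (G.map f) (R.map f) (f x) := by
  intro T hT hTn
  set L : Subgroup X := G ⊓ T.comap f with hL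
  have hLn : ∀ a ∈ R, conjBy L a = L := fun a ha => conjBy_eq_self_of_forall fun y hy => by
    refine ⟨?_, ?_⟩
    · rw [← hn a ha]; exact conjBy_mem hy.1 a
    · show f (a * y * a⁻¹) ∈ T
      rw [map_mul, map_mul, map_inv, ← hTn (f a) (mem_map_of_mem f ha)]
      exact conjBy_mem (show f y ∈ T from hy.2) (f a)
  have hcopL : (Nat.card L).Coprime r := hcop.coprime_dvd_left (card_dvd_of_le inf_le_left)
  obtain ⟨S, hS, -, hSn⟩ := exists_inv_syl (p := p) hR hcopL hLn bot_le IsPGroup.of_bot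
    (fun a _ => conjBy_bot a)
  obtain ⟨S', hS', hSS', hSn'⟩ := exists_inv_syl hR hcop hn (hS.1.trans inf_le_left) hS.isPGroup hSn
  -- S' maps onto a p-subgroup containing the image of S, which is T
  have hmapL : L.map f = T := by
    refine le_antisymm ?_ ?_
    · rintro _ ⟨y, hy, rfl⟩; exact hy.2
    · intro t ht
      obtain ⟨y, hy, rfl⟩ := hT.1 ht
      exact ⟨y, ⟨hy, ht⟩, rfl⟩
  have hST : S.map f = T := by
    refine Subgroup.eq_of_le_of_card_ge (hmapL ▸ map_mono hS.1) ?_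
    have hidx : ¬ p ∣ S.relIndex L := by
      intro hdvd
      have h := Subgroup.card_mul_index (S.subgroupOf L)
      rw [Nat.card_congr (subgroupOfEquivOfLe hS.1).toEquiv, hS.2] at h
      have hd : p ^ ((Nat.card L).factorization p + 1) ∣ Nat.card L := by
        have hh : p ^ (Nat.card L).factorization p * p ∣
            p ^ (Nat.card L).factorization p * (S.subgroupOf L).index := Nat.mul_dvd_mul_left _ hdvd
        rw [pow_succ]
        exact hh.trans h.dvd
      exact Nat.pow_succ_factorization_not_dvd Nat.card_pos.ne' (Fact.out : p.Prime) hd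
    obtain ⟨n, hn'⟩ := IsPGroup.iff_card.mp hT.isPGroup
    let f' : L →* T := (f.comp L.subtype).codRestrict T fun y => y.2.2
    have hsurj : Function.Surjective f' := fun t => by
      obtain ⟨y, hy, he⟩ := hmapL.ge t.2
      exact ⟨⟨y, hy⟩, Subtype.ext he⟩
    have hle : (S.map f).relIndex T ∣ S.relIndex L := by
      have he : (S.subgroupOf L).map f' = (S.map f).subgroupOf T := by
        ext t
        constructor
        · rintro ⟨y, hy, rfl⟩; exact ⟨y, hy, rfl⟩
        · rintro ⟨y, hy, he⟩; exact ⟨⟨y, hS.1 hy⟩, hy, Subtype.ext he⟩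
      rw [relIndex, relIndex, ← he]
      exact index_map_dvd _ hsurj
    have hmd : (S.map f).relIndex T ∣ p ^ n := hn' ▸ relIndex_dvd_card _ _
    obtain ⟨m, -, hm⟩ := (Nat.dvd_prime_pow (Fact.out : p.Prime)).mp hmd
    rcases Nat.eq_zero_or_pos m with h0 | h0
    · rw [h0, pow_zero, relIndex_eq_one] at hm
      exact card_le_of_le hm
    · exact absurd (((dvd_pow_self p h0.ne').trans hm.symm.dvd).trans hle) hidx
  have hT' : T = S'.map f := hT.eq_of_le (hS'.isPGroup.map f) (map_mono hS'.1)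
    (hST ▸ map_mono hSS')
  rw [hT']
  exact mem_map_of_mem f (hx S' hS' hSn')

omit [Fact r.Prime] in
/-- A p-group transitive on a set stable under an r-group has an r-fixed point there. -/
theorem exists_fixed {α : Type*} [Fact r.Prime] (act : X → α → α) (hone : ∀ w, act 1 w = w)
    (hmul : ∀ g h w, act (g * h) w = act g (act h w)) {H R : Subgroup X} (hH : IsPGroup p H)
    (hR : IsPGroup r R) (hpr : p ≠ r) {Ω : Set α} {w₀ : α} (hw : w₀ ∈ Ω)
    (hHΩ : ∀ h ∈ H, ∀ w ∈ Ω, act h w ∈ Ω) (htr : ∀ w ∈ Ω, ∃ h ∈ H, act h w₀ = w)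
    (hRΩ : ∀ a ∈ R, ∀ w ∈ Ω, act a w ∈ Ω) : ∃ w ∈ Ω, ∀ a ∈ R, act a w = w := by
  letI : MulAction H Ω :=
    { smul := fun h w => ⟨act h w, hHΩ h h.2 w w.2⟩
      one_smul := fun w => Subtype.ext (hone w)
      mul_smul := fun g h w => Subtype.ext (hmul g h w) }
  letI : MulAction R Ω :=
    { smul := fun h w => ⟨act h w, hRΩ h h.2 w w.2⟩
      one_smul := fun w => Subtype.ext (hone w)
      mul_smul := fun g h w => Subtype.ext (hmul g h w) }
  have horb : MulAction.orbit H (⟨w₀, hw⟩ : Ω) = Set.univ := Set.eq_univ_of_forall fun w => by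
    obtain ⟨h, hh, he⟩ := htr w w.2
    exact ⟨⟨h, hh⟩, Subtype.ext he⟩
  have hcard : ∃ n, Nat.card Ω = p ^ n := by
    obtain ⟨n, hn⟩ := IsPGroup.iff_card.mp hH
    have h1 := MulAction.index_stabilizer H (⟨w₀, hw⟩ : Ω)
    rw [horb, Set.ncard_univ] at h1
    have hd : Nat.card Ω ∣ p ^ n := by rw [← hn, ← h1]; exact index_dvd_card _
    obtain ⟨m, -, hm⟩ := (Nat.dvd_prime_pow (Fact.out : p.Prime)).mp hd
    exact ⟨m, hm⟩
  obtain ⟨n, hn⟩ := hcard
  have hnd : ¬ r ∣ Nat.card Ω := fun h => hpr (((Nat.prime_dvd_prime_iff_eq Fact.out Fact.out).mp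
    ((Fact.out : r.Prime).dvd_of_dvd_pow (hn ▸ h))).symm)
  have : Finite Ω := (Nat.card_ne_zero.mp (by rw [hn]; exact pow_ne_zero _ (Fact.out : p.Prime).ne_zero)).2
  obtain ⟨w, hfix⟩ := hR.nonempty_fixed_point_of_prime_not_dvd_card Ω hnd
  exact ⟨w, w.2, fun a ha => congrArg Subtype.val (hfix ⟨a, ha⟩)⟩

end Cfsg.Agent.FlavellQuad
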