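import Cfsg.Agent.RootSub.Quad.Components
import Cfsg.Agent.FlavellQuad.Groups

/-!
# Linear groups over the prime field: unipotents and conjugation by a normalising element
-/

set_option autoImplicit false

namespace Cfsg.Agent.FlavellQuad

open Cfsg
open Cfsg.Agent.RootSub Cfsg.Agent.RootSub.Quad

variable {p : ℕ} [Fact p.Prime] {M : Type*} [AddCommGroup M] [Module (ZMod p) M]

local notation "𝔾" => LinearMap.GeneralLinearGroup (ZMod p) M
local notation "𝔼" => Module.End (ZMod p) M

theorem two_ne (hp : 5 ≤ p) : (2 : ZMod p) ≠ 0 := by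
  intro h
  have h2 : ((2 : ℕ) : ZMod p) = 0 := by exact_mod_cast h
  have := Nat.le_of_dvd (by norm_num) ((ZMod.natCast_eq_zero_iff 2 p).mp h2)
  omega

theorem card_ne_three (hp : 5 ≤ p) : Nat.card (ZMod p) ≠ 3 := by
  rw [Nat.card_zmod]; omega

theorem finite_gl [FiniteDimensional (ZMod p) M] : Finite 𝔾 := by
  haveI : Finite M := Module.finite_of_finite (ZMod p)
  haveI : Finite 𝔼 := Finite.of_injective (fun f : 𝔼 => ⇑f) DFunLike.coe_injective
  exact Finite.of_injective (fun u : 𝔾 => (u : 𝔼)) (fun u v h => Units.ext h)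

variable {G : Subgroup (LinearMap.GeneralLinearGroup (ZMod p) M)}

theorem one_add_pow {a : 𝔼} (ha : a * a = 0) (n : ℕ) : (1 + a) ^ n = 1 + (n : ZMod p) • a := by
  induction n with
  | zero => simp
  | succ n ih =>
    rw [pow_succ, ih, Nat.cast_succ, add_smul, one_smul]
    simp [mul_add, add_mul, ha]
    abel

theorem inG_smul {a : 𝔼} (ha : a * a = 0) (h : InG G (1 + a)) (c : ZMod p) :
    InG G (1 + c • a) := by
  obtain ⟨u, hu, he⟩ := h
  refine ⟨u ^ c.val, pow_mem hu _, ?_⟩
  rw [Units.val_pow_eq_pow_val, he, one_add_pow ha, ZMod.natCast_zmod_val]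

theorem isQuad_mk {a : 𝔼} (h0 : a ≠ 0) (ha : a * a = 0) (h : InG G (1 + a)) : IsQuad G a :=
  ⟨h0, ha, fun c => inG_smul ha h c⟩

theorem mem_rootSpace_mk {a x : 𝔼} (ha : a * a = 0) (hr : LinearMap.range x ≤ LinearMap.range a)
    (hk : LinearMap.ker a ≤ LinearMap.ker x) (h : InG G (1 + x)) : x ∈ rootSpace G a := by
  refine (mem_rootSpace ha).mpr ⟨hr, hk, fun c => inG_smul ?_ h c⟩
  exact LinearMap.range_le_ker_iff.mp
    (hr.trans ((LinearMap.range_le_ker_iff.mpr ha).trans hk))

theorem oneAdd_pow_p {a : 𝔼} (ha : a * a = 0) : oneAddUnit a ha ^ p = 1 := by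
  refine Units.ext ?_
  rw [Units.val_pow_eq_pow_val, coe_oneAddUnit, one_add_pow ha, ZMod.natCast_self, zero_smul,
    add_zero, Units.val_one]

theorem natCast_p_end : ((p : ℕ) : 𝔼) = 0 := by
  rw [← nsmul_one, ← Nat.cast_smul_eq_nsmul (ZMod p), ZMod.natCast_self, zero_smul]

theorem one_add_pow_p (v : 𝔼) : (1 + v) ^ p = 1 + v ^ p := by
  obtain ⟨w, hw⟩ := (Commute.one_left v).exists_add_pow_prime_eq (Fact.out : p.Prime)
  rw [hw, one_pow, natCast_p_end, zero_mul, zero_mul, zero_mul, add_zero]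

theorem one_add_pow_p_iter (v : 𝔼) (n : ℕ) : (1 + v) ^ (p ^ n) = 1 + v ^ (p ^ n) := by
  induction n with
  | zero => simp
  | succ n ih => rw [pow_succ, pow_mul, ih, one_add_pow_p, ← pow_mul]

theorem isPGroup_of_unipotent {U : Subgroup 𝔾} (hU : IsUnipotentOn U) : IsPGroup p U := by
  obtain ⟨n, hn⟩ := isUnipotentOn_iff.mp hU
  intro g
  refine ⟨n, Subtype.ext (Units.ext ?_)⟩
  have h := hn (List.replicate n g.1) (fun x hx => (List.eq_of_mem_replicate hx) ▸ g.2)
    (List.length_replicate ..)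
  rw [List.map_replicate, List.prod_replicate] at h
  have hle : n ≤ p ^ n := (Nat.lt_pow_self (Fact.out : p.Prime).one_lt).le
  rw [SubmonoidClass.coe_pow, Units.val_pow_eq_pow_val,
    show ((g : 𝔾) : 𝔼) = 1 + (((g : 𝔾) : 𝔼) - 1) by abel, one_add_pow_p_iter,
    pow_eq_zero_of_le hle h, add_zero]
  rfl

section Fin

variable [FiniteDimensional (ZMod p) M]

theorem exists_fixed_vector {P : Subgroup 𝔾} (hP : IsPGroup p P) (W : Submodule (ZMod p) M)
    (hW : W ≠ ⊥) (hPW : ∀ g ∈ P, ∀ w ∈ W, (g : 𝔼) w ∈ W) :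
    ∃ w ∈ W, w ≠ 0 ∧ ∀ g ∈ P, (g : 𝔼) w = w := by
  haveI : Finite M := Module.finite_of_finite (ZMod p)
  letI : MulAction P W :=
    { smul := fun g w => ⟨(g.1 : 𝔼) w, hPW g.1 g.2 w w.2⟩
      one_smul := fun w => Subtype.ext rfl
      mul_smul := fun g h w => Subtype.ext (by
        show ((g.1 * h.1 : 𝔾) : 𝔼) w = _
        rw [Units.val_mul]; rfl) }
  have hdvd : p ∣ Nat.card W := by
    haveI : Nontrivial W := Submodule.nontrivial_iff_ne_bot.mpr hW
    rw [Module.natCard_eq_pow_finrank (K := ZMod p), Nat.card_zmod]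
    exact dvd_pow_self p (Module.finrank_pos).ne'
  obtain ⟨w, hw, hne⟩ := hP.exists_fixed_point_of_prime_dvd_card_of_fixed_point W hdvd
    (a := (0 : W)) (fun g => Subtype.ext (map_zero _))
  exact ⟨w, w.2, fun h => hne (Subtype.ext h.symm),
    fun g hg => congrArg Subtype.val (hw ⟨g, hg⟩)⟩

theorem isUnipotentOn_of_isPGroup {P : Subgroup 𝔾} (hP : IsPGroup p P) : IsUnipotentOn P := by
  -- the descending series strictly decreases, by a fixed point in the dual picture
  classical
  suffices H : ∀ n : ℕ, ∀ W : Submodule (ZMod p) M, Module.finrank (ZMod p) M - Module.finrank (ZMod p) W ≤ n →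
      (∀ g ∈ P, ∀ w ∈ W, (g : 𝔼) w ∈ W) →
      (∀ l : List 𝔾, (∀ g ∈ l, g ∈ P) → ∀ w ∈ W, l.length = Module.finrank (ZMod p) W →
        (l.map fun g : 𝔾 => (g : 𝔼) - 1).prod w = 0) →
      ∃ m, ∀ l : List 𝔾, (∀ g ∈ l, g ∈ P) → l.length = m →
        (l.map fun g : 𝔾 => (g : 𝔼) - 1).prod = 0 by
    refine isUnipotentOn_iff.mpr (H _ ⊥ le_rfl (fun g _ w hw => ?_) (fun l _ w hw _ => ?_))
    · rw [Submodule.mem_bot] at hw ⊢; rw [hw, map_zero]
    · rw [Submodule.mem_bot] at hw; rw [hw, map_zero]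
  intro n
  induction n with
  | zero =>
    intro W h hPW hl
    have htop : W = ⊤ := Submodule.eq_top_of_finrank_eq
      (le_antisymm (Submodule.finrank_le W) (Nat.le_of_sub_eq_zero (Nat.le_zero.mp h)))
    exact ⟨_, fun l h1 h2 => LinearMap.ext fun v => hl l h1 v (htop ▸ Submodule.mem_top) h2⟩
  | succ n ih =>
    intro W h hPW hl
    by_cases htop : W = ⊤
    · exact ⟨_, fun l h1 h2 => LinearMap.ext fun v => hl l h1 v (htop ▸ Submodule.mem_top) h2⟩
    -- a vector fixed modulo W
    haveI : Finite M := Module.finite_of_finite (ZMod p)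
    haveI : Finite (M ⧸ W) := Finite.of_surjective _ (Submodule.Quotient.mk_surjective W)
    letI : MulAction P (M ⧸ W) :=
      { smul := fun g => W.mapQ W (g.1 : 𝔼) (fun w hw => hPW g.1 g.2 w hw)
        one_smul := fun v => by
          induction v using Submodule.Quotient.induction_on with
          | H v => rfl
        mul_smul := fun g h v => by
          induction v using Submodule.Quotient.induction_on with
          | H v => rfl }
    have hdvd : p ∣ Nat.card (M ⧸ W) := by
      haveI : Nontrivial (M ⧸ W) := Submodule.Quotient.nontrivial_iff.mpr htop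
      rw [Module.natCard_eq_pow_finrank (K := ZMod p), Nat.card_zmod]
      exact dvd_pow_self p (Module.finrank_pos).ne'
    obtain ⟨v, hv, hne⟩ := hP.exists_fixed_point_of_prime_dvd_card_of_fixed_point (M ⧸ W) hdvd
      (a := (0 : M ⧸ W)) (fun g => (W.mapQ W (g.1 : 𝔼) (fun w hw => hPW g.1 g.2 w hw)).map_zero)
    obtain ⟨v, rfl⟩ := Submodule.Quotient.mk_surjective W v
    have hvW : v ∉ W := fun hm => hne ((Submodule.Quotient.mk_eq_zero W).mpr hm).symm
    have hfix : ∀ g ∈ P, ((g : 𝔼) - 1) v ∈ W := fun g hg => by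
      rw [LinearMap.sub_apply, Module.End.one_apply, ← Submodule.Quotient.eq]
      exact hv ⟨g, hg⟩
    set W' := W ⊔ Submodule.span (ZMod p) {v}
    have hlt : W < W' := lt_of_le_of_ne le_sup_left fun he =>
      hvW (he ▸ Submodule.mem_sup_right (Submodule.mem_span_singleton_self v))
    have hrank : Module.finrank (ZMod p) W' = Module.finrank (ZMod p) W + 1 := by
      have h1 := Submodule.finrank_lt_finrank_of_lt hlt
      have h2 : Module.finrank (ZMod p) W' ≤ Module.finrank (ZMod p) W +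
          Module.finrank (ZMod p) (Submodule.span (ZMod p) {v}) :=
        Submodule.finrank_add_le_finrank_add_finrank W (Submodule.span (ZMod p) {v})
      rw [finrank_span_singleton (fun h0 => hvW (by rw [h0]; exact W.zero_mem))] at h2
      omega
    have hdown : ∀ g ∈ P, ∀ w ∈ W', ((g : 𝔼) - 1) w ∈ W := by
      intro g hg w hw
      obtain ⟨w₁, hw₁, w₂, hw₂, rfl⟩ := Submodule.mem_sup.mp hw
      obtain ⟨c, rfl⟩ := Submodule.mem_span_singleton.mp hw₂
      rw [map_add, map_smul]
      refine add_mem ?_ (W.smul_mem c (hfix g hg))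
      rw [LinearMap.sub_apply, Module.End.one_apply]
      exact sub_mem (hPW g hg w₁ hw₁) hw₁
    refine ih W' (by omega) (fun g hg w hw => ?_) (fun l hl' w hw hlen => ?_)
    · have := le_sup_left (b := Submodule.span (ZMod p) {v}) (hdown g hg w hw)
      rw [LinearMap.sub_apply, Module.End.one_apply] at this
      have := add_mem this hw
      rwa [sub_add_cancel] at this
    · rw [hrank] at hlen
      obtain ⟨l', g, rfl⟩ := (List.eq_nil_or_concat' l).resolve_left (show l ≠ [] by
        intro h0; rw [h0] at hlen; simp at hlen)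
      rw [List.map_append, List.map_singleton, List.prod_append, List.prod_singleton,
        Module.End.mul_apply]
      refine hl l' (fun x hx => hl' x (List.mem_append_left _ hx)) _
        (hdown g (hl' g (by simp)) w hw) ?_
      simpa using hlen

theorem noUnipNormal_of_opCore (h : opCore p G = ⊥) : NoUnipNormal G := by
  haveI : Finite 𝔾 := finite_gl
  intro U hUG hU hn
  exact le_bot_iff.mp (h ▸ le_opCore hUG (isPGroup_of_unipotent hU) hn)

/-- A product of the logarithms of elements of a unipotent group is nilpotent. -/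
theorem isNilpotent_of_unipotent {P : Subgroup 𝔾} (hP : IsUnipotentOn P) {a b : 𝔼}
    (ha : a ∈ augSpan P) (hb : b ∈ augSpan P) : IsNilpotent (a * b) := by
  obtain ⟨n, hn⟩ := exists_series_eq_bot hP
  refine ⟨n, LinearMap.ext fun v => ?_⟩
  have hp := prod_apply_mem (S := augSpan P) (List.replicate n (a * b))
    (fun x hx => (List.eq_of_mem_replicate hx) ▸ augSpan_mul ha hb) v
  rw [List.prod_replicate, List.length_replicate, hn, Submodule.mem_bot] at hp
  exact hp

end Fin

/-! ### Conjugation by an element normalising the group -/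

variable {u : (LinearMap.GeneralLinearGroup (ZMod p) M)}

theorem inG_conjN (hu : conjBy G u = G) {x : 𝔼} {c : ZMod p} (h : InG G (1 + c • x)) :
    InG G (1 + c • conjEnd u x) := by
  obtain ⟨w, hw, he⟩ := h
  refine ⟨u * w * u⁻¹, hu ▸ conjBy_mem hw u, ?_⟩
  rw [Units.val_mul, Units.val_mul, he]
  simp [conjEnd, mul_add, add_mul]

theorem conjBy_inv_eq {X : Type*} [Group X] {H : Subgroup X} {g : X} (h : conjBy H g = H) :
    conjBy H g⁻¹ = H := by
  conv_lhs => rw [← h]
  rw [conjBy_inv_cancel]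

theorem isQuad_conjN (hu : conjBy G u = G) {a : 𝔼} (ha : IsQuad G a) :
    IsQuad G (conjEnd u a) := by
  refine ⟨fun h => ha.ne_zero ?_, by rw [conjEnd_mul, ha.sq]; simp [conjEnd],
    fun t => inG_conjN hu (ha.inG t)⟩
  rw [← conjEnd_one a, ← inv_mul_cancel u, ← conjEnd_conjEnd, h]
  simp [conjEnd]

variable [FiniteDimensional (ZMod p) M]

theorem isMin_conjN (hu : conjBy G u = G) {a : 𝔼} (ha : IsMin G a) :
    IsMin G (conjEnd u a) :=
  ⟨isQuad_conjN hu ha.toIsQuad, fun b hb => by rw [finrank_range_conjEnd]; exact ha.min b hb⟩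

theorem conjEnd_memN {a x : 𝔼} (hu : conjBy G u = G) (hx : x ∈ rootSpace G a) :
    conjEnd u x ∈ rootSpace G (conjEnd u a) := by
  refine ⟨?_, ?_, fun t => inG_conjN hu (hx.2.2 t)⟩
  · rw [range_conjEnd, range_conjEnd]; exact Submodule.map_mono hx.1
  · rw [range_conjEnd, ker_conjEnd, ← Submodule.map_sup, ker_conjEnd]
    exact Submodule.map_mono hx.2.1

theorem conjBy_rootGroupN {a : 𝔼} (hu : conjBy G u = G) :
    conjBy (rootGroup G a) u = rootGroup G (conjEnd u a) := by
  ext g
  rw [mem_conjBy, mem_rootGroup, mem_rootGroup]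
  have he : ((u⁻¹ * g * u : 𝔾) : 𝔼) - 1 = conjEnd u⁻¹ ((g : 𝔼) - 1) := by
    simp only [conjEnd, Units.val_mul, inv_inv, mul_sub, sub_mul, mul_one, Units.inv_mul]
  rw [he]
  constructor
  · intro h
    have := conjEnd_memN hu h
    rwa [conjEnd_conjEnd, mul_inv_cancel, conjEnd_one] at this
  · intro h
    have := conjEnd_memN (conjBy_inv_eq hu) h
    rwa [conjEnd_conjEnd (u := u⁻¹), inv_mul_cancel, conjEnd_one] at this

theorem sigma_conjN (hu : conjBy G u = G) {A : Subgroup 𝔾} (hA : A ∈ quadraticRootSubgroups G) :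
    conjBy A u ∈ quadraticRootSubgroups G := by
  obtain ⟨a, ha, rfl⟩ := mem_quadraticRootSubgroups.mp hA
  rw [conjBy_rootGroupN hu]
  exact (isMin_conjN hu ha).mem_sigma

theorem conn_conjN (hu : conjBy G u = G) {A B : Subgroup 𝔾} (h : Conn G A B) :
    Conn G (conjBy A u) (conjBy B u) := by
  induction h with
  | refl => exact Relation.ReflTransGen.refl
  | tail _ hadj ih =>
    exact ih.tail ⟨sigma_conjN hu hadj.1, sigma_conjN hu hadj.2.1, RankOne.conj_pair hadj.2.2 u⟩

theorem compGroup_conjN (hu : conjBy G u = G) (A : Subgroup 𝔾) :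
    conjBy (compGroup G A) u = compGroup G (conjBy A u) := by
  have hle : ∀ {v : 𝔾}, conjBy G v = G → ∀ A : Subgroup 𝔾,
      conjBy (compGroup G A) v ≤ compGroup G (conjBy A v) := by
    intro v hv A
    refine Subgroup.map_le_iff_le_comap.mpr (iSup₂_le fun B hB => ?_)
    rw [← Subgroup.map_le_iff_le_comap]
    exact le_compGroup ⟨sigma_conjN hv hB.1, conn_conjN hv hB.2⟩
  refine le_antisymm (hle hu A) ?_
  have h := conjBy_mono (hle (conjBy_inv_eq hu) (conjBy A u)) u
  rwa [conjBy_inv_cancel, conjBy_cancel_inv] at h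

end Cfsg.Agent.FlavellQuad
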