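import Cfsg.Agent.FlavellQuad.Fixed

/-!
# The members normalised by a Sylow subgroup, and families with one member in each component
-/

set_option autoImplicit false

namespace Cfsg.Agent.FlavellQuad

open Cfsg
open Cfsg.Agent.RootSub Cfsg.Agent.RootSub.Quad
open scoped commutatorElement

variable {p : ℕ} [Fact p.Prime] {M : Type*} [AddCommGroup M] [Module (ZMod p) M]

local notation "𝔾" => LinearMap.GeneralLinearGroup (ZMod p) M
local notation "𝔼" => Module.End (ZMod p) M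

/-- The elements of G fixing every member of a family. -/
def stabSet (G : Subgroup (LinearMap.GeneralLinearGroup (ZMod p) M))
    (𝒜 : Set (Subgroup (LinearMap.GeneralLinearGroup (ZMod p) M))) :
    Subgroup (LinearMap.GeneralLinearGroup (ZMod p) M) :=
  G ⊓ ⨅ A ∈ 𝒜, Subgroup.normalizer (A : Set (LinearMap.GeneralLinearGroup (ZMod p) M))

/-- One member in each component at most. -/
structure IsTransversal (G : Subgroup (LinearMap.GeneralLinearGroup (ZMod p) M))
    (𝒜 : Set (Subgroup (LinearMap.GeneralLinearGroup (ZMod p) M))) : Prop where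
  sub : 𝒜 ⊆ quadraticRootSubgroups G
  eq_of_conn : ∀ A ∈ 𝒜, ∀ A' ∈ 𝒜, Conn G A A' → A = A'

/-- The members normalised by the trace of S₀ on their component. -/
def canon (G S₀ : Subgroup (LinearMap.GeneralLinearGroup (ZMod p) M)) :
    Set (Subgroup (LinearMap.GeneralLinearGroup (ZMod p) M)) :=
  {A | A ∈ quadraticRootSubgroups G ∧ ∀ g ∈ S₀, g ∈ compGroup G A → conjBy A g = A}

variable {G : Subgroup (LinearMap.GeneralLinearGroup (ZMod p) M)}

theorem mem_stabSet {𝒜 : Set (Subgroup 𝔾)} {g : 𝔾} :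
    g ∈ stabSet G 𝒜 ↔ g ∈ G ∧ ∀ A ∈ 𝒜, conjBy A g = A := by
  simp only [stabSet, Subgroup.mem_inf, Subgroup.mem_iInf, conjBy_eq_self_iff]

theorem stabSet_le (𝒜 : Set (Subgroup 𝔾)) : stabSet G 𝒜 ≤ G := inf_le_left

variable [FiniteDimensional (ZMod p) M] (hp : 5 ≤ p) (hpure : NoUnipNormal G)
  (hgen : Subgroup.closure (quadraticElements G) = G)

omit [FiniteDimensional (ZMod p) M] in
theorem isSyl_inf_normal [Finite 𝔾] {G K S : Subgroup 𝔾} (hS : IsSyl p G S) (hK : K ≤ G)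
    (hn : ∀ g ∈ G, conjBy K g = K) : IsSyl p K (S ⊓ K) := by
  obtain ⟨T, hT, -⟩ := exists_isSyl_ge (p := p) (G := K) IsPGroup.of_bot bot_le
  obtain ⟨g, hg, hle⟩ := hS.exists_conj hT.isPGroup (hT.1.trans hK)
  refine ⟨inf_le_right, le_antisymm (isPGroup_dvd (hS.isPGroup.to_le inf_le_left) inf_le_right) ?_⟩
  rw [← hT.2]
  have hle' : T ≤ conjBy (S ⊓ K) g := by
    intro t ht
    rw [mem_conjBy]
    refine ⟨mem_conjBy.mp (hle ht), ?_⟩
    exact mem_conjBy.mp ((hn g hg).symm ▸ hT.1 ht)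
  exact (Subgroup.card_le_of_le hle').trans
    (Subgroup.card_map_of_injective (MulAut.conj g).injective).le

include hp hpure

theorem fix_other {A A' B : Subgroup 𝔾} (h : ¬ Conn G A A') (hB : B ∈ compSet G A) {g : 𝔾}
    (hg : g ∈ compGroup G A') : conjBy B g = B := by
  refine fix_of_commute fun b hb => ?_
  have hc := Subgroup.commutator_eq_bot_iff_le_centralizer.mp
    (compGroup_commute (two_ne hp) (card_ne_three hp) hpure h)
  exact (Subgroup.mem_centralizer_iff.mp (hc (le_compGroup hB hb)) g hg)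

theorem conn_of_compGroup_eq {A A' : Subgroup 𝔾} (hA : A ∈ quadraticRootSubgroups G)
    (h : compGroup G A = compGroup G A') : Conn G A A' := by
  by_contra hn
  have h0 := compGroup_commute (two_ne hp) (card_ne_three hp) hpure hn
  rw [← h] at h0
  obtain ⟨a, ha, rfl⟩ := mem_quadraticRootSubgroups.mp hA
  obtain ⟨B, hB, hAB⟩ := exists_rankOne_partner (two_ne hp) (card_ne_three hp) hpure ha
  refine RankOne.commutator_ne_bot hAB (le_bot_iff.mp (h0 ▸ Subgroup.commutator_mono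
    (le_compGroup (self_mem_compSet hA))
    (le_compGroup ⟨hB, Relation.ReflTransGen.single ⟨hA, hB, hAB⟩⟩)))

/-- Combine elements of the groups of different components. -/
theorem exists_glue {𝒜 : Set (Subgroup 𝔾)} (h𝒜 : IsTransversal G 𝒜) (H : Subgroup 𝔾)
    (C : Subgroup 𝔾 → Subgroup 𝔾) (hC : ∀ A ∈ 𝒜, C A ∈ compSet G A)
    (g : Subgroup 𝔾 → 𝔾) (hg : ∀ A ∈ 𝒜, g A ∈ H ∧ g A ∈ compGroup G A) :
    ∃ k ∈ H, ∀ A ∈ 𝒜, conjBy (C A) k = conjBy (C A) (g A) := by
  classical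
  haveI : Finite 𝔾 := finite_gl
  suffices hF : ∀ F : Finset (Subgroup 𝔾), (∀ A ∈ F, A ∈ 𝒜) →
      ∃ k ∈ H, (∀ A ∈ F, conjBy (C A) k = conjBy (C A) (g A)) ∧
        ∀ A ∈ 𝒜, A ∉ F → conjBy (C A) k = C A by
    obtain ⟨k, hk, h1, -⟩ :=
      hF (𝒜.toFinite.toFinset) (fun A hA => (Set.Finite.mem_toFinset _).mp hA)
    exact ⟨k, hk, fun A hA => h1 A ((Set.Finite.mem_toFinset _).mpr hA)⟩
  intro F
  induction F using Finset.induction_on with
  | empty => exact fun _ => ⟨1, one_mem _, fun A hA => by simp at hA, fun A _ _ => conjBy_one _⟩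
  | @insert A₀ F hnot ih =>
    intro hsub
    obtain ⟨k, hk, h1, h2⟩ := ih fun A hA => hsub A (Finset.mem_insert_of_mem hA)
    have hA₀ := hsub A₀ (Finset.mem_insert_self _ _)
    refine ⟨g A₀ * k, mul_mem (hg A₀ hA₀).1 hk, fun A hA => ?_, fun A hA hnA => ?_⟩
    · rcases Finset.mem_insert.mp hA with rfl | hA'
      · rw [← conjBy_conjBy, h2 A hA₀ hnot]
      · have hA𝒜 := hsub A hA
        have hne : ¬ Conn G A A₀ := fun hc => hnot (h𝒜.eq_of_conn A hA𝒜 A₀ hA₀ hc ▸ hA')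
        rw [← conjBy_conjBy, h1 A hA']
        exact fix_other hp hpure hne
          (conj_mem_compSet (two_ne hp) (card_ne_three hp) hpure (hg A hA𝒜).2 (hC A hA𝒜))
          (hg A₀ hA₀).2
    · have hne : ¬ Conn G A A₀ := fun hc =>
        hnA (h𝒜.eq_of_conn A hA A₀ hA₀ hc ▸ Finset.mem_insert_self _ _)
      rw [← conjBy_conjBy, h2 A hA (fun h => hnA (Finset.mem_insert_of_mem h))]
      exact fix_other hp hpure hne (hC A hA) (hg A₀ hA₀).2

include hgen

theorem mem_compSet_conj {A : Subgroup 𝔾} (hA : A ∈ quadraticRootSubgroups G) {g : 𝔾}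
    (hg : g ∈ G) : conjBy A g ∈ compSet G A := by
  have h : compGroup G (conjBy A g) = compGroup G A := by
    rw [← compGroup_conjN (conjBy_mem_self hg) A,
      conjBy_compGroup (two_ne hp) (card_ne_three hp) hpure hgen hg]
  exact ⟨conj_mem_sigma hA hg, conn_of_compGroup_eq hp hpure hA h.symm⟩

omit hpure hgen in
theorem qK_conj {a : 𝔼} (ha : IsMin G a) {g : 𝔾} (hgG : g ∈ G) (hpure : NoUnipNormal G)
    (hgen : Subgroup.closure (quadraticElements G) = G)
    (hgA : conjBy (rootGroup G a) g = rootGroup G a) : conjBy (qK G a) g = qK G a := by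
  haveI : Finite 𝔾 := finite_gl
  refine conjBy_eq_self_of_forall fun q hq => ⟨?_, ?_⟩
  · have h := mem_qCore_conj (conjBy_mem_self hgG) hq.1
    rw [conjBy_rootGroup hgG] at hgA
    have hm := ha.conj hgG
    rwa [qCore_eq ha (rootSpace_eq_of_rootGroup hgA ▸ hm.self_mem) hm.ne_zero] at h
  · rw [← conjBy_compGroup (two_ne hp) (card_ne_three hp) hpure hgen hgG]
    exact conjBy_mem hq.2 g

/-- Every component has a canonical member. -/
theorem exists_canon {S₀ : Subgroup 𝔾} (hS₀ : IsSyl p G S₀) {A₀ : Subgroup 𝔾}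
    (hA₀ : A₀ ∈ quadraticRootSubgroups G) : ∃ A ∈ canon G S₀, A ∈ compSet G A₀ := by
  haveI : Finite 𝔾 := finite_gl
  obtain ⟨a, ha, rfl⟩ := mem_quadraticRootSubgroups.mp hA₀
  set K := compGroup G (rootGroup G a) with hKdef
  have hKn : ∀ g ∈ G, conjBy K g = K :=
    fun g hg => conjBy_compGroup (two_ne hp) (card_ne_three hp) hpure hgen hg
  obtain ⟨T, hT, hQT⟩ := exists_isSyl_ge (qK_isPGroup hp a) (qK_le_compGroup (G := G) a)
  have hTA : T ≤ Subgroup.normalizer (rootGroup G a : Set 𝔾) := by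
    by_contra hnot
    set N := Subgroup.normalizer (rootGroup G a : Set 𝔾) with hN
    haveI : Group.IsNilpotent T := hT.isPGroup.isNilpotent
    have hlt : N.subgroupOf T < ⊤ :=
      lt_top_iff_ne_top.mpr fun h => hnot (Subgroup.subgroupOf_eq_top.mp h)
    obtain ⟨g, hg, hgN⟩ := SetLike.exists_of_lt (Group.normalizerCondition_of_isNilpotent _ hlt)
    refine hgN ?_
    have hgK : (g : 𝔾) ∈ K := hT.1 g.2
    have hgG : (g : 𝔾) ∈ G := compGroup_le hgK
    have hC : conjBy (rootGroup G a) (g : 𝔾) = rootGroup G (conjEnd (g : 𝔾) a) := conjBy_rootGroup hgG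
    have heq : rootGroup G (conjEnd (g : 𝔾) a) = rootGroup G a := by
      refine eq_of_normalized hp hpure hgen ha (ha.conj hgG) ?_ fun q hq => ?_
      · rw [← hC]
        exact (conj_mem_compSet (two_ne hp) (card_ne_three hp) hpure hgK (self_mem_compSet hA₀)).2
      · have hqN : (⟨q, hQT hq⟩ : T) ∈ N.subgroupOf T := by
          rw [Subgroup.mem_subgroupOf]
          exact conjBy_eq_self_iff.mp (by
            rw [conjBy_rootGroup (qK_le a hq), qK_fix hq])
        have h := (Subgroup.mem_normalizer_iff.mp (inv_mem hg) ⟨q, hQT hq⟩).mp hqN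
        rw [Subgroup.mem_subgroupOf] at h
        simp only [inv_inv, Subgroup.coe_mul, Subgroup.coe_inv] at h
        have h' := conjBy_eq_self_iff.mpr h
        rw [← hC, conjBy_conjBy]
        rw [show q * (g : 𝔾) = (g : 𝔾) * ((g : 𝔾)⁻¹ * q * (g : 𝔾)) by group, ← conjBy_conjBy, h']
    rw [Subgroup.mem_subgroupOf]
    exact conjBy_eq_self_iff.mp (hC.trans heq)
  have hS := isSyl_inf_normal hS₀ (compGroup_le : K ≤ G) hKn
  obtain ⟨k, hk, hle⟩ := hT.exists_conj hS.isPGroup hS.1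
  have hmem : conjBy (rootGroup G a) k ∈ compSet G (rootGroup G a) :=
    conj_mem_compSet (two_ne hp) (card_ne_three hp) hpure hk (self_mem_compSet hA₀)
  refine ⟨_, ⟨hmem.1, fun g hg hgK => ?_⟩, hmem⟩
  rw [← compGroup_eq_of_conn hmem.2] at hgK
  have h1 : k⁻¹ * g * k ∈ T := mem_conjBy.mp (hle ⟨hg, hgK⟩)
  rw [conjBy_conjBy, show g * k = k * (k⁻¹ * g * k) by group, ← conjBy_conjBy,
    conjBy_eq_self_iff.mpr (hTA h1)]

theorem qK_le_of_canon {S₀ : Subgroup 𝔾} (hS₀ : IsSyl p G S₀) {a : 𝔼} (ha : IsMin G a)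
    (hA : rootGroup G a ∈ canon G S₀) : qK G a ≤ S₀ := by
  haveI : Finite 𝔾 := finite_gl
  set K := compGroup G (rootGroup G a)
  have hS : IsSyl p K (S₀ ⊓ K) := isSyl_inf_normal hS₀ compGroup_le
    fun g hg => conjBy_compGroup (two_ne hp) (card_ne_three hp) hpure hgen hg
  have hn : S₀ ⊓ K ≤ Subgroup.normalizer (qK G a : Set 𝔾) := fun g hg =>
    conjBy_eq_self_iff.mp (qK_conj hp ha (compGroup_le hg.2) hpure hgen (hA.2 g hg.1 hg.2))
  have hsup := hS.isPGroup.to_sup_of_normal_right' (qK_isPGroup hp a) hn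
  have := hS.eq_of_le hsup (sup_le inf_le_right (qK_le_compGroup a)) le_sup_left
  exact (le_sup_right.trans this.ge).trans inf_le_left

theorem canon_transversal {S₀ : Subgroup 𝔾} (hS₀ : IsSyl p G S₀) :
    IsTransversal G (canon G S₀) := by
  refine ⟨fun A hA => hA.1, fun A hA A' hA' hc => ?_⟩
  obtain ⟨a, ha, rfl⟩ := mem_quadraticRootSubgroups.mp hA.1
  obtain ⟨c, hcm, rfl⟩ := mem_quadraticRootSubgroups.mp hA'.1
  refine (eq_of_normalized hp hpure hgen ha hcm hc fun q hq => ?_).symm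
  refine hA'.2 q (qK_le_of_canon hp hpure hgen hS₀ ha hA hq) ?_
  rw [← compGroup_eq_of_conn hc]
  exact hq.2

theorem canon_fix {S₀ : Subgroup 𝔾} (hS₀ : IsSyl p G S₀) {g : 𝔾} (hg : g ∈ S₀) :
    ∀ A ∈ canon G S₀, conjBy A g = A := by
  intro A hA
  have hgG := hS₀.1 hg
  have hmem := mem_compSet_conj hp hpure hgen hA.1 hgG
  refine ((canon_transversal hp hpure hgen hS₀).eq_of_conn A hA _ ⟨hmem.1, fun h hh hhK => ?_⟩
    hmem.2).symm
  rw [← compGroup_eq_of_conn hmem.2] at hhK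
  have h1 : g⁻¹ * h * g ∈ compGroup G A := by
    have := conjBy_mem hhK g⁻¹
    rwa [inv_inv, conjBy_compGroup (two_ne hp) (card_ne_three hp) hpure hgen (inv_mem hgG)] at this
  rw [conjBy_conjBy, show h * g = g * (g⁻¹ * h * g) by group, ← conjBy_conjBy,
    hA.2 _ (mul_mem (mul_mem (inv_mem hg) hh) hg) h1]

omit hp hpure hgen in
theorem canon_conjN {S₀ : Subgroup 𝔾} {a : 𝔾} (hG : conjBy G a = G) (hS : conjBy S₀ a = S₀)
    {A : Subgroup 𝔾} (hA : A ∈ canon G S₀) : conjBy A a ∈ canon G S₀ := by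
  refine ⟨sigma_conjN hG hA.1, fun g hg hgK => ?_⟩
  rw [← compGroup_conjN hG] at hgK
  have h1 : a⁻¹ * g * a ∈ S₀ := mem_conjBy.mp (hS.symm ▸ hg)
  have h2 : a⁻¹ * g * a ∈ compGroup G A := mem_conjBy.mp hgK
  rw [conjBy_conjBy, show g * a = a * (a⁻¹ * g * a) by group, ← conjBy_conjBy, hA.2 _ h1 h2]

/-- The stabiliser's p-core contains the unipotent groups of the members. -/
theorem qK_le_opCore {𝒜 : Set (Subgroup 𝔾)} (h𝒜 : IsTransversal G 𝒜) {a : 𝔼} (ha : IsMin G a)
    (hA : rootGroup G a ∈ 𝒜) : qK G a ≤ opCore p (stabSet G 𝒜) := by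
  haveI : Finite 𝔾 := finite_gl
  refine le_opCore (fun q hq => mem_stabSet.mpr ⟨qK_le a hq, fun B hB => ?_⟩) (qK_isPGroup hp a)
    fun n hn => qK_conj hp ha (mem_stabSet.mp hn).1 hpure hgen ((mem_stabSet.mp hn).2 _ hA)
  by_cases h : Conn G B (rootGroup G a)
  · rw [h𝒜.eq_of_conn B hB _ hA h, conjBy_rootGroup (qK_le a hq), qK_fix hq]
  · exact fix_other hp hpure h (self_mem_compSet (h𝒜.sub hB)) hq.2

/-- The p-core of the stabiliser of a family, cut down to a component, is normalised by the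
stabiliser of the member in that component. -/
theorem core_component {𝒜 : Set (Subgroup 𝔾)} (h𝒜 : IsTransversal G 𝒜) {A : Subgroup 𝔾}
    (hA : A ∈ 𝒜) {g : 𝔾} (hg : g ∈ G) (hgA : conjBy A g = A) :
    conjBy (opCore p (stabSet G 𝒜) ⊓ compGroup G A) g =
      opCore p (stabSet G 𝒜) ⊓ compGroup G A := by
  haveI : Finite 𝔾 := finite_gl
  set K := compGroup G A with hK
  have hCK : G ⊓ Subgroup.centralizer (K : Set 𝔾) ≤ Subgroup.normalizer (K : Set 𝔾) :=
    inf_le_right.trans (Subgroup.centralizer_le_normalizer _)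
  obtain ⟨k, hk, c, hc, rfl⟩ : ∃ k ∈ K, ∃ c ∈ G ⊓ Subgroup.centralizer (K : Set 𝔾), k * c = g := by
    have := le_compGroup_sup hp hpure hgen A hg
    rw [← SetLike.mem_coe, Subgroup.coe_mul_of_right_le_normalizer_left _ _ hCK] at this
    exact Set.mem_mul.mp this
  have hcA : conjBy A c = A := fix_of_commute fun x hx =>
    (Subgroup.mem_centralizer_iff.mp hc.2 x (le_compGroup (self_mem_compSet (h𝒜.sub hA)) hx)).symm
  have hkA : conjBy A k = A := by
    rw [← conjBy_conjBy, hcA] at hgA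
    exact hgA
  have hks : k ∈ stabSet G 𝒜 := mem_stabSet.mpr ⟨compGroup_le hk, fun B hB => by
    by_cases h : Conn G B A
    · rw [h𝒜.eq_of_conn B hB A hA h]; exact hkA
    · exact fix_other hp hpure h (self_mem_compSet (h𝒜.sub hB)) hk⟩
  refine conjBy_eq_self_of_forall fun z hz => ?_
  have hcz : c * z * c⁻¹ = z := by
    rw [← Subgroup.mem_centralizer_iff.mp hc.2 z hz.2, mul_inv_cancel_right]
  rw [show k * c * z * (k * c)⁻¹ = k * (c * z * c⁻¹) * k⁻¹ by group, hcz]
  refine ⟨?_, K.mul_mem (K.mul_mem hk hz.2) (K.inv_mem hk)⟩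
  rw [← conjBy_opCore_self hks]
  exact conjBy_mem hz.1 k

end Cfsg.Agent.FlavellQuad
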