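import Cfsg.Agent.FlavellQuad.Pair

/-!
# A member of a component normalised by the unipotent group of another member equals it
-/

set_option autoImplicit false

namespace Cfsg.Agent.FlavellQuad

open Cfsg
open Cfsg.Agent.RootSub Cfsg.Agent.RootSub.Quad

variable {p : ℕ} [Fact p.Prime] {M : Type*} [AddCommGroup M] [Module (ZMod p) M]

local notation "𝔾" => LinearMap.GeneralLinearGroup (ZMod p) M
local notation "𝔼" => Module.End (ZMod p) M

/-- The unipotent group of a inside its component. -/
def qK (G : Subgroup (LinearMap.GeneralLinearGroup (ZMod p) M)) (a : Module.End (ZMod p) M) :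
    Subgroup (LinearMap.GeneralLinearGroup (ZMod p) M) :=
  qCore G a ⊓ compGroup G (rootGroup G a)

variable {G : Subgroup (LinearMap.GeneralLinearGroup (ZMod p) M)}
variable [FiniteDimensional (ZMod p) M]

theorem qK_congr {a x : 𝔼} (ha : IsMin G a) (hx : x ∈ rootSpace G a) (hx0 : x ≠ 0) :
    qK G x = qK G a := by
  rw [qK, qK, qCore_eq ha hx hx0, rootGroup_congr (ha.rootSpace_eq hx hx0)]

omit [FiniteDimensional (ZMod p) M] in
theorem qK_le (a : 𝔼) : qK G a ≤ G := inf_le_left.trans (qCore_le a)

omit [FiniteDimensional (ZMod p) M] in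
theorem qK_isPGroup (hp : 5 ≤ p) (a : 𝔼) : IsPGroup p (qK G a) :=
  (qCore_isPGroup hp a).to_le inf_le_left

omit [FiniteDimensional (ZMod p) M] in
theorem qK_le_compGroup (a : 𝔼) : qK G a ≤ compGroup G (rootGroup G a) := inf_le_right

theorem rootGroup_le_qK {a : 𝔼} (ha : IsMin G a) : rootGroup G a ≤ qK G a :=
  le_inf (rootGroup_le_qCore ha.sq) (le_compGroup (self_mem_compSet ha.mem_sigma))

omit [FiniteDimensional (ZMod p) M] in
theorem qK_fix {a : 𝔼} {q : 𝔾} (hq : q ∈ qK G a) : conjEnd q a = a := by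
  have h1 := qCore_mul_left hq.1
  have h2 := qCore_mul_right hq.1
  rw [conjEnd, h1]
  conv_lhs => rw [← h2, mul_assoc, Units.mul_inv, mul_one]

variable (hp : 5 ≤ p) {a b c : Module.End (ZMod p) M} (ha : IsMin G a) (hb : IsMin G b)
  (hab : IsOpp a b)

include hp ha hb hab

theorem compGroup_opp : compGroup G (rootGroup G b) = compGroup G (rootGroup G a) :=
  (compGroup_eq_of_conn (conn_of_opp (two_ne hp) (card_ne_three hp) ha hb hab)).symm

theorem le_compGroup_opp : rootGroup G b ≤ compGroup G (rootGroup G a) :=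
  le_compGroup ⟨hb.mem_sigma, conn_of_opp (two_ne hp) (card_ne_three hp) ha hb hab⟩

theorem exists_qK_conj (hc : IsMin G c) (hac : IsOpp a c) :
    ∃ q ∈ qK G a, conjBy (rootGroup G b) q = rootGroup G c := by
  obtain ⟨q, hq, hqs, hqc⟩ := exists_qCore_conj hp ha hb hab hc hac
  exact ⟨q, ⟨hq, (sup_le (sup_le (le_compGroup (self_mem_compSet ha.mem_sigma))
    (le_compGroup_opp hp ha hb hab)) (le_compGroup_opp hp ha hc hac)) hqs⟩, hqc⟩

theorem compGroup_le_sup (hpure : NoUnipNormal G) :
    compGroup G (rootGroup G a) ≤ qK G a ⊔ rootGroup G b := by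
  set H := qK G a ⊔ rootGroup G b
  have hAH : rootGroup G a ≤ H := (rootGroup_le_qK ha).trans le_sup_left
  have hHG : H ≤ G := sup_le (qK_le a) rootGroup_le
  obtain ⟨w, hw, hwb⟩ := exists_conj_opposite_mem (two_ne hp) (card_ne_three hp) ha hb hab
  have hwH : w ∈ H := sup_le hAH le_sup_right hw
  suffices hconj : ∀ D, Conn G (rootGroup G a) D → ∃ h ∈ H, conjBy (rootGroup G a) h = D by
    refine iSup₂_le fun D hD => ?_
    obtain ⟨h, hh, rfl⟩ := hconj D hD.2
    exact conjBy_le_of_mem hAH hh
  intro D hD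
  induction hD with
  | refl => exact ⟨1, one_mem _, conjBy_one _⟩
  | @tail D E _ hadj ih =>
    obtain ⟨h, hh, rfl⟩ := ih
    have hhG := hHG hh
    obtain ⟨d, hd, hde⟩ := mem_quadraticRootSubgroups.mp hadj.1
    obtain ⟨e, he, rfl⟩ := mem_quadraticRootSubgroups.mp hadj.2.1
    have hopp := isOpp_of_rankOne (two_ne hp) (card_ne_three hp) hd he hpure (hde ▸ hadj.2.2)
    rw [conjBy_rootGroup hhG] at hde
    have hopp' : IsOpp (conjEnd h a) e :=
      hopp.of_mem (two_ne hp) (card_ne_three hp) hd he
        (rootSpace_eq_of_rootGroup hde ▸ (ha.conj hhG).self_mem) (ha.conj hhG).ne_zero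
        he.self_mem he.ne_zero
    have he0 := he.conj (inv_mem hhG)
    have hopp0 : IsOpp a (conjEnd h⁻¹ e) := by
      have := (isOpp_conj h⁻¹).mpr hopp'
      rwa [conjEnd_conjEnd, inv_mul_cancel, conjEnd_one] at this
    obtain ⟨q, hq, hqe⟩ := exists_qK_conj hp ha hb hab he0 hopp0
    refine ⟨h * q * w, mul_mem (mul_mem hh (Subgroup.mem_sup_left hq)) hwH, ?_⟩
    rw [← conjBy_conjBy, ← conjBy_conjBy, hwb, hqe, conjBy_rootGroup hhG, conjEnd_conjEnd,
      mul_inv_cancel, conjEnd_one]

omit hb hab

/-- A non trivial p-element of a component is not central in it. -/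
theorem eq_one_of_central (hpure : NoUnipNormal G)
    (hgen : Subgroup.closure (quadraticElements G) = G) {x : 𝔾}
    (hx : x ∈ compGroup G (rootGroup G a)) (hxp : x ^ p = 1)
    (hcent : ∀ k ∈ compGroup G (rootGroup G a), x * k = k * x) : x = 1 := by
  haveI : Finite 𝔾 := finite_gl
  set K := compGroup G (rootGroup G a) with hK
  let U : Subgroup 𝔾 :=
    { carrier := {z | z ∈ K ∧ z ^ p = 1 ∧ ∀ k ∈ K, z * k = k * z}
      one_mem' := ⟨one_mem _, one_pow _, fun k _ => by simp⟩
      mul_mem' := by
        rintro y z ⟨hy, hyp, hyc⟩ ⟨hz, hzp, hzc⟩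
        refine ⟨mul_mem hy hz, ?_, fun k hk => ?_⟩
        · rw [(show Commute y z from hyc z hz).mul_pow, hyp, hzp, one_mul]
        · exact ((show Commute y k from hyc k hk).mul_left (hzc k hk)).eq
      inv_mem' := by
        rintro y ⟨hy, hyp, hyc⟩
        exact ⟨inv_mem hy, by rw [inv_pow, hyp, inv_one],
          fun k hk => ((show Commute y k from hyc k hk).inv_left).eq⟩ }
  have hUp : IsPGroup p U := fun g => ⟨1, Subtype.ext (by
    rw [pow_one, SubmonoidClass.coe_pow]; exact g.2.2.1)⟩
  have hUn : ∀ g ∈ G, conjBy U g = U := fun g hg => conjBy_eq_self_of_forall fun z hz => by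
    have hKg : conjBy K g = K := conjBy_compGroup (two_ne hp) (card_ne_three hp) hpure hgen hg
    refine ⟨hKg ▸ conjBy_mem hz.1 g, by rw [conj_pow, hz.2.1]; group, fun k hk => ?_⟩
    have hk' : g⁻¹ * k * g ∈ K := mem_conjBy.mp (hKg.symm ▸ hk)
    have := hz.2.2 _ hk'
    calc g * z * g⁻¹ * k = g * (z * (g⁻¹ * k * g)) * g⁻¹ := by group
      _ = g * (g⁻¹ * k * g * z) * g⁻¹ := by rw [this]
      _ = k * (g * z * g⁻¹) := by group
  have := hpure U (fun z hz => compGroup_le hz.1) (isUnipotentOn_of_isPGroup hUp) hUn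
  have hxU : x ∈ U := ⟨hx, hxp, hcent⟩
  rw [this, Subgroup.mem_bot] at hxU
  exact hxU

variable {y : Module.End (ZMod p) M}

omit ha in
/-- A quadratic element in degree one is a line partner. -/
theorem line_opp (hpure : NoUnipNormal G) (ha : IsMin G a) (hym : IsMin G y)
    (y1 : a * y * a = a) (y2 : y * a * y = y) {η : 𝔼} (hηq : IsQuad G η)
    (h1 : η * a = 0) (h2 : a * η = 0) (heq : a * y * η + η * (y * a) = η) (h3 : η * y * η = 0) :
    IsMin G η ∧ ¬ IsOpp y η ∧ ∃ δ, IsMin G δ ∧ IsOpp a δ ∧ IsOpp η δ := by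
  have hrank : Module.finrank (ZMod p) (LinearMap.range η) ≤
      Module.finrank (ZMod p) (LinearMap.range a) := by
    have r1 : LinearMap.range η ≤ LinearMap.range (a * y * η) ⊔ LinearMap.range (η * (y * a)) := by
      conv_lhs => rw [← heq]
      exact LinearMap.range_add_le _ _
    have r2 : LinearMap.range (y * η) ≤ LinearMap.range (y * a) ⊓ LinearMap.ker η := by
      refine le_inf ?_ (LinearMap.range_le_ker_iff.mpr (by
        rw [← Module.End.mul_eq_comp, ← mul_assoc]; exact h3))
      conv_lhs => rw [← y2, mul_assoc (y * a)]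
      exact LinearMap.range_comp_le_range _ _
    have f1 := Submodule.finrank_mono r1
    have f2 := Submodule.finrank_add_le_finrank_add_finrank (LinearMap.range (a * y * η))
      (LinearMap.range (η * (y * a)))
    have f3 := Submodule.finrank_mono r2
    have f4 := finrank_range_mul η (y * a)
    have f5 : Module.finrank (ZMod p) (LinearMap.range (y * a)) ≤
        Module.finrank (ZMod p) (LinearMap.range a) := by
      rw [Module.End.mul_eq_comp, LinearMap.range_comp]; exact Submodule.finrank_map_le _ _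
    have f6 : Module.finrank (ZMod p) (LinearMap.range (a * y * η)) ≤
        Module.finrank (ZMod p) (LinearMap.range (y * η)) := by
      rw [mul_assoc, Module.End.mul_eq_comp, LinearMap.range_comp]; exact Submodule.finrank_map_le _ _
    omega
  have hη : IsMin G η := ⟨hηq, fun d hd => hrank.trans (ha.min d hd)⟩
  have hyη : ¬ IsOpp y η := fun h => h ⟨2, by
    rw [sq, show y * η * (y * η) = y * (η * y * η) by simp only [mul_assoc], h3, mul_zero]⟩
  refine ⟨hη, hyη, ?_⟩
  set v := y * η - η * y with hv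
  have hav : a * v - v * a = η := by
    rw [hv, show a * (y * η - η * y) - (y * η - η * y) * a =
      a * y * η + η * (y * a) - (a * η * y + y * (η * a)) by noncomm_ring, heq, h1, h2, zero_mul,
      mul_zero, add_zero, sub_zero]
  have hv0 : v ≠ 0 := fun h0 => hη.ne_zero (by rw [← hav, h0, mul_zero, zero_mul, sub_zero])
  obtain ⟨hvm, -⟩ := commutator_data (two_ne hp) (card_ne_three hp) hym hη hyη hym.self_mem
    hη.self_mem hv0
  have hnav : ¬ IsOpp a v := fun h => h ⟨2, by
    have : a * v * a = 0 := by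
      rw [hv, show a * (y * η - η * y) * a = a * y * (η * a) - a * η * (y * a) by noncomm_ring, h1,
        h2, mul_zero, zero_mul, sub_zero]
    rw [sq, ← mul_assoc, this, zero_mul]⟩
  have hne : a * v - v * a ≠ 0 := hav ▸ hη.ne_zero
  obtain ⟨g, hg, hopp⟩ := exists_opposite (two_ne hp) (card_ne_three hp) hpure hη
  set δ₀ := conjEnd g η
  obtain ⟨u, hu, hua⟩ := exists_conj_opp (two_ne hp) (card_ne_three hp) ha hvm hnav hne
    (hη.conj hg) (hav.symm ▸ hopp)
  have hfix : conjEnd u⁻¹ η = η := by
    have hηm : η ∈ rootSpace G (a * v - v * a) := hav.symm ▸ hη.self_mem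
    obtain ⟨z1, z2⟩ := commutator_annihilates' (two_ne hp) (card_ne_three hp) ha hvm hnav hne hu hηm
    obtain ⟨w1, w2⟩ := commutator_annihilates' (two_ne hp) (card_ne_three hp) ha hvm hnav hne
      (show u⁻¹ ∈ rootGroup G v from inv_mem hu) hηm
    rw [sub_mul, one_mul, sub_eq_zero] at w1
    rw [mul_sub, mul_one, sub_eq_zero] at z2
    rw [conjEnd, inv_inv, w1, z2]
  refine ⟨conjEnd u⁻¹ δ₀, (hη.conj hg).conj (inv_mem (rootGroup_le hu)), ?_, ?_⟩
  · have := (isOpp_conj u⁻¹).mpr hua
    rwa [conjEnd_conjEnd, inv_mul_cancel, conjEnd_one] at this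
  · have := (isOpp_conj u⁻¹).mpr hopp
    rwa [hfix] at this

omit ha

/-- A member normalised by qK of a member in its component, and meeting qCore, is that member. -/
theorem eq_of_mem_qCore (hpure : NoUnipNormal G) (ha : IsMin G a) (hc : IsMin G c)
    (hn : ∀ q ∈ qK G a, conjBy (rootGroup G c) q = rootGroup G c)
    (k1 : c * a = 0) (k2 : a * c = 0) (k3 : ∀ m, a m = 0 → c m ∈ LinearMap.range a) :
    rootGroup G c = rootGroup G a := by
  obtain ⟨g, hg, hab⟩ := exists_opposite (two_ne hp) (card_ne_three hp) hpure ha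
  set b := conjEnd g a
  have hb : IsMin G b := ha.conj hg
  obtain ⟨y, hy, hy0, y1, y2⟩ := exists_pseudo hp ha hb hab
  obtain ⟨s, t, hs, ht, htm⟩ := exists_proj hp ha hb hab
  have htG : t ∈ G := (sup_le rootGroup_le rootGroup_le : _ ≤ G) htm
  have es := hs.unique (isProj_partner hp ha hb hab hy hy0 y1 y2)
  have hyy := mul_eq_zero_of_mem hy hy
  have hym := hb.isMin_of_mem hy hy0
  set ζ := a * y * c * (y * a) with hζdef
  have ce : c * (a * y) = 0 := by rw [← mul_assoc, k1, zero_mul]
  have fc : y * a * c = 0 := by rw [mul_assoc, k2, mul_zero]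
  have hsum : a * y * c + c * (y * a) = c + ζ := by
    have h0 : (1 - s) * c * (1 - s) = 0 := LinearMap.ext fun m => by
      rw [Module.End.mul_apply, Module.End.mul_apply, LinearMap.zero_apply]
      obtain ⟨n, hn⟩ := k3 ((1 - s) m) (by
        rw [← Module.End.mul_apply, mul_sub, mul_one, hs.right_a, sub_self, LinearMap.zero_apply])
      rw [← hn, ← Module.End.mul_apply, sub_mul, one_mul, hs.left_a, sub_self, LinearMap.zero_apply]
    rw [show (1 - s) * c * (1 - s) = c - s * c - c * s + s * c * s by noncomm_ring, es, add_mul,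
      mul_add, fc, ce, add_zero, zero_add, mul_add, mul_assoc _ c (a * y), ce, mul_zero, zero_add,
      sub_sub, sub_add_eq_add_sub] at h0
    exact (sub_eq_zero.mp h0).symm
  have cζ : c * ζ = 0 := by rw [hζdef, show c * (a * y * c * (y * a)) = c * (a * y) * c * (y * a) by simp only [mul_assoc], ce,
    zero_mul, zero_mul]
  have ζc : ζ * c = 0 := by rw [hζdef, mul_assoc, fc, mul_zero]
  -- ζ lies in the root space of a
  have hζ : ζ ∈ rootSpace G a := by
    have hr : LinearMap.range ζ ≤ LinearMap.range a := by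
      rw [hζdef, mul_assoc, mul_assoc]; exact LinearMap.range_comp_le_range _ _
    have hk : LinearMap.ker a ≤ LinearMap.ker ζ := fun m hm => by
      simp [hζdef, Module.End.mul_apply, LinearMap.mem_ker.mp hm]
    refine mem_rootSpace_mk ha.sq hr hk ?_
    obtain ⟨u, hu, hue⟩ : InG G (1 + c) := by simpa using hc.inG 1
    have h2ζ : InG G (1 + (2 : ZMod p) • ζ) := by
      refine ⟨u * (t * u * t), mul_mem hu (mul_mem (mul_mem htG hu) htG), ?_⟩
      have hscs : s * c * s = ζ := by
        rw [es, add_mul, fc, add_zero, mul_add, mul_assoc _ c (a * y), ce, mul_zero, zero_add]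
      have hsc : s * c + c * s = c + ζ := by
        rw [es, add_mul, fc, add_zero, mul_add, ce, zero_add, hsum]
      rw [Units.val_mul, Units.val_mul, Units.val_mul, hue, ht, two_smul]
      rw [show (1 - s - s) * (1 + c) * (1 - s - s) = 1 + ((s * s - s) + (s * s - s)) + ((s * s - s) + (s * s - s))
        + c - (s * c + c * s) - (s * c + c * s) + (s * c * s + s * c * s + (s * c * s + s * c * s))
        by noncomm_ring, hs.idem, sub_self, hscs, hsc]
      rw [show (1 + c) * (1 + (0 + 0) + (0 + 0) + c - (c + ζ) - (c + ζ) + (ζ + ζ + (ζ + ζ))) =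
        1 + (ζ + ζ) + (c * ζ + c * ζ) - c * c by noncomm_ring, cζ, hc.sq]
      abel
    have hz2 : ζ * ζ = 0 := LinearMap.range_le_ker_iff.mp
      (hr.trans ((LinearMap.range_le_ker_iff.mpr ha.sq).trans hk))
    have h := inG_smul (a := (2 : ZMod p) • ζ) ?_ h2ζ 2⁻¹
    · rwa [smul_smul, inv_mul_cancel₀ (two_ne hp), one_smul] at h
    · rw [smul_mul_smul_comm, hz2, smul_zero]
  have hζζ := mul_eq_zero_of_mem hζ hζ
  set η := c - ζ with hηdef
  by_cases hη0 : η = 0
  · rw [sub_eq_zero.mp hη0]
    exact rootGroup_congr (ha.rootSpace_eq hζ (sub_eq_zero.mp hη0 ▸ hc.ne_zero))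
  have heζ : a * y * ζ = ζ := by
    rw [hζdef, show a * y * (a * y * c * (y * a)) = a * y * a * y * c * (y * a) by
      simp only [mul_assoc], y1]
  have hζf : ζ * (y * a) = ζ := by
    rw [hζdef, mul_assoc, show y * a * (y * a) = y * a * y * a by simp only [mul_assoc], y2]
  have hηeq : a * y * η + η * (y * a) = η := by
    rw [hηdef, mul_sub, sub_mul, heζ, hζf,
      show a * y * c - ζ + (c * (y * a) - ζ) = a * y * c + c * (y * a) - ζ - ζ by abel, hsum]
    abel
  have hηq : IsQuad G η := by
    refine isQuad_mk hη0 ?_ ?_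
    · rw [hηdef, sub_mul, mul_sub, mul_sub, hc.sq, cζ, ζc, hζζ]; simp
    · have h1 : InG G (1 + c) := by simpa using hc.inG 1
      have h2 : InG G (1 - ζ) := by
        have := hζ.2.2 (-1); rwa [neg_one_smul, ← sub_eq_add_neg] at this
      convert h1.mul h2 using 1
      rw [hηdef, mul_sub, add_mul, add_mul, one_mul, one_mul, mul_one, cζ]
      abel
  have hηa : η * a = 0 := by
    rw [hηdef, sub_mul, k1, mul_eq_zero_of_mem hζ ha.self_mem, sub_zero]
  have haη : a * η = 0 := by
    rw [hηdef, mul_sub, k2, mul_eq_zero_of_mem ha.self_mem hζ, sub_zero]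
  -- the pair carrying the line
  obtain ⟨a', y', ha'm, hy'm, ha'0, hy'0, y1', y2', ea, eb, h3⟩ : ∃ a' y' : 𝔼, a' ∈ rootSpace G a ∧
      y' ∈ rootSpace G b ∧ a' ≠ 0 ∧ y' ≠ 0 ∧ a' * y' * a' = a' ∧ y' * a' * y' = y' ∧
      a' * y' = a * y ∧ y' * a' = y * a ∧ η * y' * η = 0 := by
    by_cases hz : ζ = 0
    · refine ⟨a, y, ha.self_mem, hy, ha.ne_zero, hy0, y1, y2, rfl, rfl, ?_⟩
      have hn' : ¬ IsOpp c y := by
        intro hopp
        have e1 : y * (c * (y * a)) = 0 := by
          nth_rewrite 1 [← y2]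
          rw [show y * a * y * (c * (y * a)) = y * ζ by rw [hζdef]; simp only [mul_assoc], hz,
            mul_zero]
        have hcf : c * (y * a) = 0 := by
          rw [← LinearMap.range_eq_bot, eq_bot_iff,
            ← hopp.inf_eq_bot (two_ne hp) (card_ne_three hp) hc hym]
          exact le_inf (LinearMap.range_comp_le_range _ _) (LinearMap.range_le_ker_iff.mpr e1)
        refine hy0 (LinearMap.range_eq_bot.mp (eq_bot_iff.mpr ?_))
        rw [← hopp.symm.inf_eq_bot (two_ne hp) (card_ne_three hp) hym hc]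
        refine le_inf le_rfl (LinearMap.range_le_ker_iff.mpr ?_)
        rw [← Module.End.mul_eq_comp]
        conv_lhs => rw [← y2, ← mul_assoc, hcf, zero_mul]
      rw [hηdef, hz, sub_zero]
      exact (nilpotent_case (two_ne hp) hc hym (not_not.mp hn')).1
    · have hζm := ha.isMin_of_mem hζ hz
      have hζb : IsOpp ζ b := hab.of_mem (two_ne hp) (card_ne_three hp) ha hb hζ hz hb.self_mem hb.ne_zero
      have hcb : IsOpp c b := by
        by_contra hn'
        have hcy : IsNilpotent (c * y) :=
          not_isOpp_of_mem (two_ne hp) (card_ne_three hp) hc hb hn' hc.self_mem hc.ne_zero hy hy0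
        have h0 := (nilpotent_case (two_ne hp) hc hym hcy).1
        refine hab.of_mem (two_ne hp) (card_ne_three hp) ha hb hζ hz hy hy0 ⟨2, ?_⟩
        rw [sq, ← mul_assoc, show ζ * y * ζ = a * y * (c * ((y * a) * y * (a * y)) * c) * (y * a) by
          rw [hζdef]; simp only [mul_assoc], show y * a * y * (a * y) = y * a * y * a * y by
          simp only [mul_assoc], y2, y2, h0, mul_zero, zero_mul, zero_mul]
      obtain ⟨z, hz', hz0, z1, -⟩ := exists_pseudo hp hc hb hcb
      have hzy : y * z = 0 := mul_eq_zero_of_mem hy hz'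
      have hzy' : z * y = 0 := mul_eq_zero_of_mem hz' hy
      have hze : z * (a * y) = z := by
        have := hs.right_space' hz'
        rw [es, mul_add, ← mul_assoc z y a, hzy', zero_mul, add_zero] at this
        exact this
      have hfz : y * a * z = z := by
        have := hs.left_space' hz'
        rw [es, add_mul, mul_assoc a y z, hzy, mul_zero, zero_add] at this
        exact this
      have hζz : ζ * z * ζ = ζ := by
        calc ζ * z * ζ = a * y * (c * ((y * a * z) * (a * y)) * c) * (y * a) := by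
              rw [hζdef]; simp only [mul_assoc]
          _ = ζ := by rw [hfz, hze, z1]
      obtain ⟨z', hz'', hz0', z1', z2'⟩ := exists_pseudo hp hζm hb hζb
      obtain rfl : z = z' :=
        partner_unique hp hζm hb hζb hζm.self_mem hζm.ne_zero hz' hz'' hζz z1'
      have hsζ : IsProj ζ b s := ⟨hs.left_space hζ, hs.right_space hζ, hs.left_b, hs.right_b,
        hs.range_le.trans (sup_le_sup_right (ha.range_eq hζ hz).ge _),
        fun m h1 h2 => hs.ker_le m
          (LinearMap.mem_ker.mp ((ha.ker_eq hζ hz).le (LinearMap.mem_ker.mpr h1))) h2⟩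
      have esz : s = ζ * z + z * ζ :=
        hsζ.unique (isProj_partner hp hζm hb hζb hz' hz0' z1' z2')
      have ez : ζ * z = a * y := by
        have h := hs.right_space hζ
        have h' : a * y * s = a * y := by rw [mul_assoc, hs.right_space' hy]
        conv_rhs => rw [← h', esz, mul_add, ← mul_assoc, heζ, ← mul_assoc (a * y) z ζ,
          mul_assoc a y z, hzy, mul_zero, zero_mul, add_zero]
      have fz : z * ζ = y * a := by
        have h' : s * (y * a) = y * a := by rw [← mul_assoc, hs.left_space' hy]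
        conv_rhs => rw [← h', esz, add_mul, mul_assoc z ζ, hζf, mul_assoc ζ z, ← mul_assoc z y a,
          hzy', zero_mul, mul_zero, zero_add]
      refine ⟨ζ, z, hζ, hz', hz, hz0, hζz, z2', ez, fz, ?_⟩
      rw [hηdef, show (c - ζ) * z * (c - ζ) = c * z * c - c * (z * ζ) - ζ * z * c + ζ * z * ζ by
        noncomm_ring, z1, fz, ez, heζ,
        show c - c * (y * a) - a * y * c + ζ = c - (a * y * c + c * (y * a)) + ζ by abel, hsum]
      abel
  have ha' := ha.isMin_of_mem ha'm ha'0
  have hy' := hb.isMin_of_mem hy'm hy'0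
  have h1' : η * a' = 0 := LinearMap.range_le_ker_iff.mp
    (ha'm.1.trans (LinearMap.range_le_ker_iff.mpr hηa))
  have h2' : a' * η = 0 := LinearMap.range_le_ker_iff.mp
    ((LinearMap.range_le_ker_iff.mpr haη).trans ((mem_rootSpace ha.sq).mp ha'm).2.1)
  obtain ⟨hη, hyη, δ, hδ, hδa, hδη⟩ :=
    line_opp hp hpure ha' hy' y1' y2' hηq h1' h2' (by rw [ea, eb]; exact hηeq) h3
  have hab' : IsOpp a' y' :=
    hab.of_mem (two_ne hp) (card_ne_three hp) ha hb ha'm ha'0 hy'm hy'0
  obtain ⟨q, hq, hqd⟩ := exists_qK_conj hp ha' hy' hab' hδ hδa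
  rw [qK_congr ha ha'm ha'0] at hq
  -- q fixes η unless C = A
  have hqc : conjEnd q c ∈ rootSpace G c := by
    have := hn q hq
    rw [conjBy_rootGroup (qK_le a hq)] at this
    exact rootSpace_eq_of_rootGroup this ▸ (hc.conj (qK_le a hq)).self_mem
  by_cases hd : conjEnd q c - c = 0
  · exfalso
    have hqη : conjEnd q η = η := by
      have e1 := qCore_commute hq.1 hζ
      rw [hηdef]
      nth_rewrite 2 [← sub_eq_zero.mp hd, ← e1]
      simp [conjEnd, mul_sub, sub_mul]
    refine hyη ((isOpp_conj q).mp ?_)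
    rw [hqη]
    have hmem : conjEnd q y' ∈ rootSpace G δ := by
      rw [conjBy_rootGroup (qK_le a hq)] at hqd
      exact rootSpace_eq_of_rootGroup hqd ▸ (hy'.conj (qK_le a hq)).self_mem
    exact hδη.symm.of_mem (two_ne hp) (card_ne_three hp) hδ hη hmem
      (hy'.conj (qK_le a hq)).ne_zero hη.self_mem hη.ne_zero
  · have hdm : conjEnd q c - c ∈ rootSpace G a := by
      set u := (q : 𝔼) - 1 with hu
      have he : conjEnd q c - c = (u * c - c * u) * ((q⁻¹ : 𝔾) : 𝔼) := by
        rw [hu, show (((q : 𝔼) - 1) * c - c * ((q : 𝔼) - 1)) = (q : 𝔼) * c - c * (q : 𝔼) by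
          noncomm_ring, sub_mul, mul_assoc c, Units.mul_inv, mul_one, conjEnd]
      obtain ⟨-, q1, q2, q3⟩ := hq.1
      have hInG : InG G (1 + (conjEnd q c - c)) := by
        have := (sub_mem hqc hc.self_mem).2.2 1
        rwa [one_smul] at this
      refine mem_rootSpace_mk ha.sq ?_ ?_ hInG
      · rw [he]
        refine (LinearMap.range_comp_le_range _ _).trans ?_
        rintro _ ⟨m, rfl⟩
        rw [LinearMap.sub_apply, Module.End.mul_apply, Module.End.mul_apply]
        exact sub_mem (q3 _ (by rw [← Module.End.mul_apply, k2, LinearMap.zero_apply]))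
          (k3 _ (by rw [← Module.End.mul_apply, q2, LinearMap.zero_apply]))
      · intro m hm
        rw [LinearMap.mem_ker] at hm ⊢
        rw [he, Module.End.mul_apply]
        set n := ((q⁻¹ : 𝔾) : 𝔼) m
        have hn' : a n = 0 := by
          show a (((q⁻¹ : 𝔾) : 𝔼) m) = 0
          rw [← Module.End.mul_apply, qCore_mul_right (inv_mem hq.1), hm]
        obtain ⟨w₁, hw₁⟩ := q3 n hn'
        obtain ⟨w₂, hw₂⟩ := k3 n hn'
        rw [LinearMap.sub_apply, Module.End.mul_apply, Module.End.mul_apply, ← hw₁, ← hw₂,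
          ← Module.End.mul_apply, ← Module.End.mul_apply, q1, k1]
        simp
    exact rootGroup_congr ((hc.rootSpace_eq (sub_mem hqc hc.self_mem) hd).symm.trans
      (ha.rootSpace_eq hdm hd))

/-- A member of the component of a normalised by qK of a equals the root group of a. -/
theorem eq_of_normalized (hpure : NoUnipNormal G)
    (hgen : Subgroup.closure (quadraticElements G) = G) (ha : IsMin G a) (hc : IsMin G c)
    (hconn : Conn G (rootGroup G a) (rootGroup G c))
    (hn : ∀ q ∈ qK G a, conjBy (rootGroup G c) q = rootGroup G c) :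
    rootGroup G c = rootGroup G a := by
  have hu : oneAddUnit a ha.sq ∈ rootGroup G a := oneAddUnit_mem ha.self_mem ha.sq
  have hnA : ∀ q ∈ rootGroup G a, conjBy (rootGroup G c) q = rootGroup G c :=
    fun q hq => hn q (rootGroup_le_qK ha hq)
  have hno : ¬ IsOpp a c := by
    intro ho
    have h := (isSpecialRankOnePair (two_ne hp) (card_ne_three hp) ha hc ho).1
    have h1 := RankOne.eq_one_of_fix h hu (hnA _ hu)
    have h' := congrArg Units.val h1
    rw [coe_oneAddUnit, Units.val_one, add_eq_left] at h'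
    exact ha.ne_zero h'
  have hac : a * c - c * a = 0 := by
    by_contra hne
    have haca : a * c * a = 0 := (nilpotent_case (two_ne hp) ha hc (not_not.mp hno)).1
    have hcm : conjEnd (oneAddUnit a ha.sq) c ∈ rootSpace G c := by
      have := hnA _ hu
      rw [conjBy_rootGroup (rootGroup_le hu)] at this
      exact rootSpace_eq_of_rootGroup this ▸ (hc.conj (rootGroup_le hu)).self_mem
    have hD : a * c - c * a ∈ rootSpace G c := by
      have := sub_mem hcm hc.self_mem
      rwa [conjEnd, coe_oneAddUnit, coe_oneAddUnit_inv,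
        show (1 + a) * c * (1 - a) - c = a * c - c * a - a * c * a by noncomm_ring, haca,
        sub_zero] at this
    have hcmem : c ∈ rootSpace G (a * c - c * a) := by
      rw [hc.rootSpace_eq hD hne]; exact hc.self_mem
    obtain ⟨e1, e2⟩ := commutator_annihilates (two_ne hp) (card_ne_three hp) ha hc hno hne
      ha.self_mem hcmem
    rw [e1, e2, sub_zero] at hne
    exact hne rfl
  by_cases hex : ∃ v ∈ rootGroup G c, v ≠ 1 ∧ v ∈ qCore G a
  · obtain ⟨v, hv, hv1, -, k1, k2, k3⟩ := hex
    obtain ⟨hx, hx0⟩ := exists_quadratic_ne_one_rep hv hv1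
    have hC := rootGroup_congr (hc.rootSpace_eq hx hx0)
    rw [← hC] at hn ⊢
    exact eq_of_mem_qCore hp hpure ha (hc.isMin_of_mem hx hx0) hn k1 k2 k3
  exfalso
  push Not at hex
  set K := compGroup G (rootGroup G a) with hK
  obtain ⟨g, hg, hab⟩ := exists_opposite (two_ne hp) (card_ne_three hp) hpure ha
  set b := conjEnd g a
  have hb : IsMin G b := ha.conj hg
  obtain ⟨y, hy, hy0, y1, y2⟩ := exists_pseudo hp ha hb hab
  set v := oneAddUnit c hc.sq with hvdef
  have hvC : v ∈ rootGroup G c := oneAddUnit_mem hc.self_mem hc.sq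
  have hvG : v ∈ G := rootGroup_le hvC
  have hvK : v ∈ K := le_compGroup (G := G) (A := rootGroup G a) ⟨hc.mem_sigma, hconn⟩ hvC
  -- v centralises the root space of a
  have hvA : ∀ x ∈ rootSpace G a, conjEnd v x = x := by
    intro x hx
    have h := commute_all (two_ne hp) (card_ne_three hp) ha hc hno ha.self_mem ha.ne_zero
      hc.self_mem hc.ne_zero (sub_eq_zero.mp hac) hx hc.self_mem
    rw [conjEnd, coe_oneAddUnit, coe_oneAddUnit_inv, add_mul, one_mul, ← h,
      show (x + x * c) * (1 - c) = x + x * c - x * c - x * (c * c) by noncomm_ring, hc.sq]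
    simp
  have hvQ : ∀ q ∈ qK G a, v * q = q * v := by
    intro q hq
    have hCm : q * v * q⁻¹ * v⁻¹ ∈ rootGroup G c :=
      mul_mem (hn q hq ▸ conjBy_mem hvC q) (inv_mem hvC)
    have hvq : v * q⁻¹ * v⁻¹ ∈ qCore G a := by
      have := mem_qCore_conj (u := v) (conjBy_mem_self hvG) (inv_mem hq.1)
      rwa [hvA a ha.self_mem] at this
    have hQm : q * v * q⁻¹ * v⁻¹ ∈ qCore G a := by
      have := mul_mem hq.1 hvq
      rwa [← mul_assoc, ← mul_assoc] at this
    have h1 : q * v * q⁻¹ * v⁻¹ = 1 := by_contra fun h => hex _ hCm h hQm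
    rw [mul_inv_eq_one, mul_inv_eq_iff_eq_mul] at h1
    exact h1.symm
  -- conjugating the opposite by v
  have hbv : IsMin G (conjEnd v b) := hb.conj hvG
  have habv : IsOpp a (conjEnd v b) := by
    have := (isOpp_conj v).mpr hab
    rwa [hvA a ha.self_mem] at this
  obtain ⟨q, hq, hqb⟩ := exists_qK_conj hp ha hb hab hbv habv
  set x := q⁻¹ * v with hxdef
  have hqG : q ∈ G := qK_le a hq
  have hxG : x ∈ G := mul_mem (inv_mem hqG) hvG
  have hxA : ∀ z ∈ rootSpace G a, conjEnd x z = z := fun z hz => by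
    rw [hxdef, ← conjEnd_conjEnd, hvA z hz, qCore_commute (inv_mem hq.1) hz]
  have hxB : conjBy (rootGroup G b) x = rootGroup G b := by
    rw [hxdef, ← conjBy_conjBy, conjBy_rootGroup hvG, ← hqb, conjBy_inv_cancel]
  have hxBsp : ∀ z ∈ rootSpace G b, conjEnd x z = z := by
    intro z hz
    rcases eq_or_ne z 0 with rfl | hz0
    · simp [conjEnd]
    have hmem : conjEnd x z ∈ rootSpace G b := by
      have h1 := conjEnd_mem hxG hz
      rw [conjBy_rootGroup hxG] at hxB
      rwa [rootSpace_eq_of_rootGroup hxB] at h1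
    have hzm := hb.isMin_of_mem hz hz0
    obtain ⟨w, hw, hw0, w1, w2⟩ :=
      exists_partner (two_ne hp) (card_ne_three hp) hb ha hab.symm hz hz0
    refine partner_unique hp ha hb hab hw hw0 hmem hz ?_ w2
    conv_lhs => rw [← hxA w hw]
    rw [conjEnd_mul, conjEnd_mul, w2, hxA w hw]
  have hcommB : ∀ k ∈ rootGroup G a ⊔ rootGroup G b, x * k = k * x := by
    have hle : rootGroup G a ⊔ rootGroup G b ≤ Subgroup.centralizer {x} := by
      refine sup_le (fun k hk => ?_) (fun k hk => ?_) <;>
        rw [Subgroup.mem_centralizer_singleton_iff]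
      · have h := hxA _ hk
        rw [conjEnd, mul_sub, sub_mul, mul_one, Units.mul_inv, sub_left_inj, ← Units.val_mul,
          ← Units.val_mul] at h
        exact (mul_inv_eq_iff_eq_mul.mp (Units.ext h)).symm
      · have h := hxBsp _ hk
        rw [conjEnd, mul_sub, sub_mul, mul_one, Units.mul_inv, sub_left_inj, ← Units.val_mul,
          ← Units.val_mul] at h
        exact (mul_inv_eq_iff_eq_mul.mp (Units.ext h)).symm
    exact fun k hk => (Subgroup.mem_centralizer_singleton_iff.mp (hle hk)).symm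
  obtain ⟨s, t, hs, ht, htm⟩ := exists_proj hp ha hb hab
  have es := hs.unique (isProj_partner hp ha hb hab hy hy0 y1 y2)
  have htG : t ∈ G := (sup_le rootGroup_le rootGroup_le : _ ≤ G) htm
  have htK : t ∈ K := (sup_le (le_compGroup (self_mem_compSet ha.mem_sigma))
    (le_compGroup_opp hp ha hb hab) : _ ≤ K) htm
  have htt : t * t = 1 := by
    refine Units.ext ?_
    rw [Units.val_mul, ht, Units.val_one]
    calc (1 - s - s) * (1 - s - s) = 1 + (s * s - s) + (s * s - s) + (s * s - s) + (s * s - s) := by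
          noncomm_ring
      _ = 1 := by rw [hs.idem, sub_self]; simp
  have hti : t⁻¹ = t := inv_eq_of_mul_eq_one_right htt
  have htQ : ∀ h ∈ qK G a, t * h * t ∈ qK G a := by
    intro h hh
    refine ⟨?_, mul_mem (mul_mem htK hh.2) htK⟩
    have hneg : qCore G (conjEnd t a) = qCore G a := by
      have : conjEnd t a = a := by
        rw [conjEnd, hti, ht, show (1 - s - s) * a * (1 - s - s) = a - s * a - s * a - a * s - a * s
          + ((s * a) * s + (s * a) * s + ((s * a) * s + (s * a) * s)) by noncomm_ring, hs.left_a,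
          hs.right_a]
        abel
      rw [this]
    have := mem_qCore_conj (u := t) (conjBy_mem_self htG) hh.1
    rwa [hneg, hti] at this
  have hfixed : ∀ h ∈ qK G a, t * h * t = h → h ∈ rootGroup G a := by
    intro h hh he
    have hcomm : t * h = h * t := by
      conv_rhs => rw [← he]
      rw [mul_assoc, htt, mul_one]
    set u := (h : 𝔼) - 1 with hu
    obtain ⟨hhG, u1, u2, u3⟩ := hh.1
    have hsu : s * u = u * s := by
      have e := congrArg Units.val hcomm
      rw [Units.val_mul, Units.val_mul, ht, show (h : 𝔼) = 1 + u by rw [hu]; abel] at e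
      have e2 : (2 : ZMod p) • (s * u - u * s) = 0 := by
        rw [two_smul]
        calc s * u - u * s + (s * u - u * s)
            = (1 + u) * (1 - s - s) - (1 - s - s) * (1 + u) := by noncomm_ring
          _ = 0 := by rw [e, sub_self]
      exact sub_eq_zero.mp ((smul_eq_zero.mp e2).resolve_left (two_ne hp))
    have hus : u = u * s := by
      have h0 : u * (1 - s) = 0 := LinearMap.ext fun m => by
        rw [Module.End.mul_apply, LinearMap.zero_apply]
        obtain ⟨n, hn'⟩ := u3 ((1 - s) m) (by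
          rw [← Module.End.mul_apply, mul_sub, mul_one, hs.right_a, sub_self, LinearMap.zero_apply])
        have e : s (u ((1 - s) m)) = 0 := by
          rw [← Module.End.mul_apply, ← Module.End.mul_apply, hsu, mul_assoc, mul_sub, mul_one,
            hs.idem, sub_self, mul_zero, LinearMap.zero_apply]
        rw [← hn', ← Module.End.mul_apply, hs.left_a, hn'] at e
        exact e
      rw [mul_sub, mul_one, sub_eq_zero] at h0
      exact h0
    have h1 : u = u * (y * a) := by
      conv_lhs => rw [hus, es, mul_add, ← mul_assoc, u1, zero_mul, zero_add]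
    have h2 : u = a * (y * u) := by
      conv_lhs => rw [hus, ← hsu, es, add_mul, mul_assoc y a u, u2, mul_zero, add_zero, mul_assoc]
    refine mem_rootSpace_mk ha.sq ?_ ?_ (by rw [add_sub_cancel]; exact InG.of_unit hhG)
    · show LinearMap.range u ≤ _
      rw [h2]; exact LinearMap.range_comp_le_range _ _
    · intro m hm
      rw [LinearMap.mem_ker] at hm ⊢
      show u m = 0
      rw [h1, Module.End.mul_apply, Module.End.mul_apply, hm, map_zero, map_zero]
  have hpp : ∀ h ∈ qK G a, h ^ p = 1 := by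
    intro h hh
    obtain ⟨-, g1, g2, g3⟩ := hh.1
    refine Units.ext ?_
    set u := (h : 𝔼) - 1 with hu
    have h3 : u ^ 3 = 0 := LinearMap.ext fun m => by
      rw [pow_succ, pow_succ, pow_one, Module.End.mul_apply, Module.End.mul_apply]
      obtain ⟨n, hn'⟩ := g3 (u m) (by rw [← Module.End.mul_apply, g2, LinearMap.zero_apply])
      rw [← hn', ← Module.End.mul_apply, g1]
      simp
    rw [Units.val_pow_eq_pow_val, show (h : 𝔼) = 1 + u by rw [hu]; abel, one_add_pow_p, pow_eq_zero_of_le (by omega) h3,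
      add_zero]
    simp
  set n := (p + 1) / 2
  have hn2 : n + n = p + 1 := by
    rcases (Fact.out : p.Prime).eq_two_or_odd with h | h <;> omega
  have hinvd : ∀ h ∈ qK G a, t * h * t = h⁻¹ → x * h = h * x := by
    intro h hh he
    set a₁ := x * h * x⁻¹ * h⁻¹ with ha₁
    have hv' : v * h * v⁻¹ = h := by rw [hvQ h hh, mul_inv_cancel_right]
    have hmem : a₁ ∈ rootGroup G a := by
      have : a₁ = q⁻¹ * h * q⁻¹⁻¹ * h⁻¹ := by
        rw [ha₁, hxdef, mul_inv_rev, inv_inv,
          show q⁻¹ * v * h * (v⁻¹ * q) * h⁻¹ = q⁻¹ * (v * h * v⁻¹) * q * h⁻¹ by group, hv']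
      rw [this]
      exact qCore_commutator ha.sq (inv_mem hq.1) hh.1
    have hxt : x * t = t * x := hcommB t htm
    have hφ : ∀ g : 𝔾, MulAut.conj t g = t * g * t := fun g => by rw [MulAut.conj_apply, hti]
    have ha₁t : MulAut.conj t a₁ = a₁ := by
      rw [hφ]
      refine Units.ext ?_
      have hm := (mem_rootGroup.mp hmem)
      have h1 := hs.left_space hm
      have h2 := hs.right_space hm
      rw [Units.val_mul, Units.val_mul, ht,
        show (a₁ : 𝔼) = 1 + ((a₁ : 𝔼) - 1) by abel]
      rw [show (1 - s - s) * (1 + ((a₁ : 𝔼) - 1)) * (1 - s - s) = (1 - s - s) * (1 - s - s) +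
        (((a₁ : 𝔼) - 1) - s * ((a₁ : 𝔼) - 1) - s * ((a₁ : 𝔼) - 1)) * (1 - s - s) by noncomm_ring,
        h1, ← ht, ← Units.val_mul, htt, Units.val_one, ht]
      rw [show ((a₁ : 𝔼) - 1 - ((a₁ : 𝔼) - 1) - ((a₁ : 𝔼) - 1)) * (1 - s - s) =
        ((a₁ : 𝔼) - 1) * s + ((a₁ : 𝔼) - 1) * s - ((a₁ : 𝔼) - 1) by noncomm_ring, h2]
      abel
    have e1 : MulAut.conj t a₁ = x * h⁻¹ * x⁻¹ * h := by
      have hφx : MulAut.conj t x = x := by rw [hφ, ← hxt, mul_assoc, htt, mul_one]
      have hφh : MulAut.conj t h = h⁻¹ := by rw [hφ, he]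
      rw [ha₁, map_mul, map_mul, map_mul, map_inv, map_inv, hφx, hφh, inv_inv]
    have e2 : x * h⁻¹ * x⁻¹ * h = a₁⁻¹ := by
      have hcen : a₁ * h = h * a₁ := by
        have := qCore_commute (g := h) hh.1 hmem
        rw [conjEnd, mul_sub, sub_mul, mul_one, Units.mul_inv, sub_left_inj, ← Units.val_mul,
          ← Units.val_mul] at this
        exact (mul_inv_eq_iff_eq_mul.mp (Units.ext this)).symm
      have : x * h⁻¹ * x⁻¹ = h⁻¹ * a₁⁻¹ := by rw [ha₁]; group
      rw [this, ← (show Commute a₁ h from hcen).inv_inv.eq, inv_mul_cancel_right]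
    rw [ha₁t, e2] at e1
    have hsq : a₁ ^ 2 = 1 := by rw [sq]; nth_rewrite 1 [e1]; rw [inv_mul_cancel]
    have hp1 : a₁ ^ p = 1 := hpp _ (rootGroup_le_qK ha hmem)
    have h1 : a₁ = 1 := by
      obtain ⟨j, hj⟩ : Odd p := (Fact.out : p.Prime).odd_of_ne_two (by omega)
      have h2j : a₁ ^ (2 * j + 1) = 1 := (congrArg (a₁ ^ ·) hj).symm.trans hp1
      rwa [pow_succ, pow_mul, hsq, one_pow, one_mul] at h2j
    rw [ha₁, mul_inv_eq_one, mul_inv_eq_iff_eq_mul] at h1
    exact h1
  have hxQ : ∀ h ∈ qK G a, x * h = h * x := by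
    intro h hh
    set d := h⁻¹ * (t * h * t) with hd
    have hdm : d ∈ qK G a := mul_mem (inv_mem hh) (htQ h hh)
    have hdinv : t * d * t = d⁻¹ := by
      rw [hd, mul_inv_rev, inv_inv, mul_inv_rev, mul_inv_rev, hti]
      simp only [mul_assoc, htt, mul_one]
    set r := d ^ n with hrdef
    have hrm : r ∈ qK G a := pow_mem hdm _
    have htr : t * r * t = r⁻¹ := by
      have h1 : t * d = d⁻¹ * t := by rw [← hdinv, mul_assoc, htt, mul_one]
      have h2 : t * d ^ n = d⁻¹ ^ n * t := (SemiconjBy.pow_right (a := t) h1 n)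
      rw [hrdef, h2, mul_assoc, htt, mul_one, inv_pow]
    have hr2 : r * r = d := by
      rw [hrdef, ← pow_add, hn2, pow_succ, hpp d hdm, one_mul]
    have hfix : t * (h * r) * t = h * r := by
      calc t * (h * r) * t = (t * h * t) * (t * r * t) := by
            simp only [mul_assoc]; rw [← mul_assoc t t, htt, one_mul]
        _ = (h * (r * r)) * r⁻¹ := by rw [htr, hr2, hd, mul_inv_cancel_left]
        _ = h * r := by group
    have h3 := hcommB _ (Subgroup.mem_sup_left (hfixed _ (mul_mem hh hrm) hfix))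
    have h4 := hinvd r hrm htr
    have := (show Commute x (h * r) from h3).mul_right (show Commute x r from h4).inv_right
    rwa [mul_inv_cancel_right] at this
  have hxK : x ∈ K := mul_mem (inv_mem hq.2) hvK
  have hxp : x ^ p = 1 := by
    rw [hxdef, ((show Commute v q from hvQ q hq).inv_right.symm).mul_pow, inv_pow, hpp q hq,
      inv_one, one_mul, hvdef, oneAdd_pow_p]
  have hcent : ∀ k ∈ K, x * k = k * x := by
    have hle : K ≤ Subgroup.centralizer {x} := (compGroup_le_sup hp ha hb hab hpure).trans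
      (sup_le (fun k hk => Subgroup.mem_centralizer_singleton_iff.mpr (hxQ k hk).symm)
        (fun k hk => Subgroup.mem_centralizer_singleton_iff.mpr
          (hcommB k (Subgroup.mem_sup_right hk)).symm))
    exact fun k hk => (Subgroup.mem_centralizer_singleton_iff.mp (hle hk)).symm
  have hx1 := eq_one_of_central hp ha hpure hgen hxK hxp hcent
  rw [hxdef, inv_mul_eq_one] at hx1
  refine hex v hvC (fun h => hc.ne_zero ?_) (hx1 ▸ hq.1)
  have h' := congrArg Units.val h
  rw [hvdef, coe_oneAddUnit, Units.val_one, add_eq_left] at h'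
  exact h'

end Cfsg.Agent.FlavellQuad
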