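import Cfsg.Agent.RootSub.Quad.General

/-!
# Splitting a minimal summand off a quadratic element, with ranges and kernels

The argument is that of RootSub.Quad.exists_min_split with more of its data in the conclusion.
-/

namespace Cfsg.Agent.FlavellQuad

open Cfsg Polynomial
open Cfsg.Agent.RootSub Cfsg.Agent.RootSub.Dickson Cfsg.Agent.RootSub.Quad
open scoped MatrixGroups

variable {k : Type*} [Field k] {M : Type*} [AddCommGroup M] [Module k M] [FiniteDimensional k M]
variable {G : Subgroup (LinearMap.GeneralLinearGroup k M)}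

theorem exists_min_split_ext (h2 : (2 : k) ≠ 0) (h3 : Nat.card k ≠ 3) {a q : Module.End k M}
    (ha : IsMin G a) (hq : IsQuad G q) (haq : ¬ IsNilpotent (a * q)) :
    ∃ y, IsMin G y ∧ y * (q - y) = 0 ∧ (q - y) * y = 0 ∧ (q - y ≠ 0 → IsQuad G (q - y)) ∧
      Module.finrank k (LinearMap.range (q - y)) < Module.finrank k (LinearMap.range q) ∧
      a * (q - y) = 0 ∧ (q - y) * a = 0 ∧ LinearMap.range y ≤ LinearMap.range q ∧
      LinearMap.ker q ≤ LinearMap.ker y := by
  obtain ⟨hfield, hst⟩ := opp_main h2 h3 _ a q ha hq haq le_rfl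
  let := hfield.toField
  set N := Module.finrank k M with hN
  set π := Ideal.Quotient.mk (stabIdeal a q) with hπ
  set πa : k[X] →ₐ[k] k[X] ⧸ stabIdeal a q := Ideal.Quotient.mkₐ k _ with hπa
  have hXu : IsUnit (π X) := isUnit_of_injective (k := k) (X_isUnit a q)
  have hkill : ∀ f ∈ stabIdeal a q, aeval (a * q) f * a = 0 := by
    intro f hf
    refine LinearMap.ext fun m => ?_
    have hm : a m ∈ stablePart a q := hst.symm ▸ ⟨m, rfl⟩
    obtain ⟨x, hx⟩ := hm
    rw [Module.End.mul_apply, ← hx, ← Module.End.mul_apply, ← mul_assoc]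
    have h0 := LinearMap.congr_fun hf x
    rw [map_mul, map_pow, aeval_X] at h0
    exact h0
  have hword : ∀ t : k, ∃ g : k[X], π (X ^ (N + 1) * g) = π (C t) ∧
      InG G (1 + termA q a (X ^ (N + 1) * g)) := by
    intro t
    obtain ⟨W, hW, hWg⟩ := congW_surjective h2 h3 πa (Ideal.Quotient.mkₐ_surjective k _)
      hXu.ne_zero (N + 2) (lowR (π (C t * X)))
    obtain ⟨hWw, hWc⟩ := Subgroup.mem_inf.mp hW
    obtain ⟨⟨g0, hg0⟩, ⟨g1, hg1⟩, ⟨g2, hg2⟩, ⟨g3, hg3⟩⟩ := mem_congW.mp hWc
    have e : ∀ i j, π (W i j) = lowR (π (C t * X)) i j := fun i j => by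
      rw [← hWg]
      simp [Matrix.SpecialLinearGroup.map_apply_coe, RingHom.mapMatrix_apply, hπa, hπ]
    have hmem : ∀ f g : k[X], f = X ^ (N + 2) * g → π f = 0 → g ∈ stabIdeal a q := by
      intro f g hf h
      rw [hf, map_mul, map_pow] at h
      exact Ideal.Quotient.eq_zero_iff_mem.mp ((hXu.pow _).mul_right_eq_zero.mp h)
    have m0 := hmem _ _ hg0 (by rw [map_sub, e]; simp [coe_lowR])
    have m1 := hmem _ _ hg1 (by rw [e]; simp [coe_lowR])
    have m3 := hmem _ _ hg3 (by rw [map_sub, e]; simp [coe_lowR])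
    refine ⟨g2, ?_, ?_⟩
    · have h10 : π (W 1 0) = π (C t) * π X := by rw [e]; simp [coe_lowR]
      rw [hg2, pow_succ, mul_right_comm, map_mul] at h10
      exact hXu.mul_right_cancel h10
    · have h := inG_evalMat ha.toIsQuad hq hWw
      have w00 : W 0 0 = 1 + X ^ (N + 1 + 1) * g0 := by linear_combination hg0
      have w11 : W 1 1 = 1 + X ^ (N + 1 + 1) * g3 := by linear_combination hg3
      have w10 : W 1 0 = X ^ (N + 1 + 1) * g2 := hg2
      have he : evalMat a q (W : Matrix (Fin 2) (Fin 2) k[X]) =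
          1 + termA q a (X ^ (N + 1) * g2) := by
        rw [evalMat, w00, w11, w10, (divX_one_add _ g0).1, (divX_one_add _ g0).2,
          (divX_one_add _ g3).2, divX_X_pow_mul, map_one, mul_comm (X ^ (N + 1)) g0,
          mul_comm (X ^ (N + 1)) g3, kill_AB (by omega) m0, kill_BA (by omega) m3,
          hg1, mul_comm (X ^ (N + 2)) g1, termA, (mem_stabIdeal_iff (by omega)).mp m1]
        abel
      rwa [he] at h
  obtain ⟨g, hg, -⟩ := hword 1
  set h := X ^ (N + 1) * g with hh
  set y := termA q a h with hy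
  have hker : (1 - aeval (a * q) h) * a = 0 := by
    have := hkill (1 - h) (Ideal.Quotient.eq_zero_iff_mem.mp (by
      show π (1 - h) = 0
      rw [map_sub, hg, map_one C, sub_self]))
    rwa [map_sub, map_one] at this
  have hy' : y = q * aeval (a * q) h := termA_eq q a h
  have hra : (q - y) * a = 0 := by
    rw [hy', show q - q * aeval (a * q) h = q * (1 - aeval (a * q) h) by rw [mul_sub, mul_one],
      mul_assoc, hker, mul_zero]
  have har : a * (q - y) = 0 := by
    rw [hy, termA, mul_sub, ← mul_assoc a, mul_aeval_swap, mul_assoc (aeval (a * q) h),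
      show a * q - aeval (a * q) h * (a * q) = (1 - aeval (a * q) h) * a * q by
        rw [sub_mul, sub_mul, one_mul, mul_assoc], hker, zero_mul]
  have hX : aeval (q * a) h = q * (a * aeval (q * a) (X ^ N * g)) := by
    rw [hh, show X ^ (N + 1) * g = X * (X ^ N * g) by ring, map_mul, aeval_X, mul_assoc]
  have hqy : q * y = 0 := by
    rw [hy, termA, hX, ← mul_assoc, ← mul_assoc, hq.sq, zero_mul, zero_mul]
  have hyq : y * q = 0 := by rw [hy, termA, mul_assoc, hq.sq, mul_zero]
  have hyy : y * y = 0 := A_mul_A hq.sq h h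
  have hay : a * y = a * q := by
    rw [mul_sub, sub_eq_zero] at har
    exact har.symm
  have hy0 : y ≠ 0 := by
    intro h0
    rw [h0, mul_zero] at hay
    exact haq (hay ▸ IsNilpotent.zero)
  have hyG : ∀ t : k, InG G (1 + t • y) := by
    intro t
    obtain ⟨gt, hgt, hG⟩ := hword t
    have hmem : gt - C t * g ∈ stabIdeal a q := by
      have h0 : π (X ^ (N + 1)) * π (gt - C t * g) = 0 := by
        rw [← map_mul, mul_sub, map_sub, hgt, mul_left_comm, map_mul, hg, map_one C, map_one,
          mul_one, sub_self]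
      rw [map_pow] at h0
      exact Ideal.Quotient.eq_zero_iff_mem.mp ((hXu.pow _).mul_right_eq_zero.mp h0)
    have hz := kill_B (L := N) le_rfl hmem
    have : termA q a (X ^ (N + 1) * gt) = t • y := by
      rw [show (gt - C t * g) * X ^ (N + 1) = X ^ (N + 1) * gt - C t * h by rw [hh]; ring, termA,
        map_sub, sub_mul, map_mul (aeval (q * a)) (C t) h, aeval_C, mul_assoc, ← Algebra.smul_def, sub_eq_zero] at hz
      exact hz
    rwa [this] at hG
  have hyrank : Module.finrank k (LinearMap.range y) ≤ Module.finrank k (LinearMap.range a) := by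
    have e : y = (q * a) ^ 0 * aeval (q * a) (X ^ N * g) * q * (a * q) := by
      rw [pow_zero, one_mul, hy, termA, hh, show X ^ (N + 1) * g = (X ^ N * g) * X by ring, map_mul,
        aeval_X]
      simp only [mul_assoc]
    rw [e, Module.End.mul_eq_comp, LinearMap.range_comp]
    exact (Submodule.finrank_map_le _ _).trans
      (Submodule.finrank_mono (LinearMap.range_comp_le_range _ _))
  have hymin : IsMin G y := ⟨⟨hy0, hyy, hyG⟩, fun b hb => hyrank.trans (ha.min b hb)⟩
  refine ⟨y, hymin, by rw [mul_sub, hyq, hyy, sub_zero], by rw [sub_mul, hqy, hyy, sub_zero],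
    fun hr0 => ⟨hr0, by rw [sub_mul, mul_sub, mul_sub, hq.sq, hqy, hyq, hyy]; simp, fun t => ?_⟩,
    ?_, har, hra, ?_, ?_⟩
  · have hp := (hq.inG t).mul (hyG (-t))
    convert hp using 1
    simp [add_mul, mul_add, hqy, smul_sub]
    abel
  · have hrq : q - y = q * (1 - aeval (a * q) h) := by rw [hy', mul_sub, mul_one]
    have hle : LinearMap.range (q - y) ≤ LinearMap.range q := by
      rw [hrq]; exact LinearMap.range_comp_le_range _ _
    refine Submodule.finrank_lt_finrank_of_lt (lt_of_le_of_ne hle fun heq => ?_)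
    apply haq
    have hyr : LinearMap.range y ≤ LinearMap.ker a := by
      refine le_trans ?_ (LinearMap.range_le_ker_iff.mpr har)
      rw [heq, hy']
      exact LinearMap.range_comp_le_range _ _
    have h0 : a * y = 0 := LinearMap.range_le_ker_iff.mp hyr
    rw [← hay, h0]
    exact IsNilpotent.zero
  · rw [hy']; exact LinearMap.range_comp_le_range _ _
  · rw [hy, termA]; exact LinearMap.ker_le_ker_comp _ _

end Cfsg.Agent.FlavellQuad
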