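import Cfsg.Agent.FlavellQuad.Comp
import Cfsg.Agent.FlavellQuad.Split

/-!
# p-subgroups normalised by the stabilisers of two opposite members
-/

set_option autoImplicit false

namespace Cfsg.Agent.FlavellQuad

open Cfsg
open Cfsg.Agent.RootSub Cfsg.Agent.RootSub.Quad

variable {p : ℕ} [Fact p.Prime] {M : Type*} [AddCommGroup M] [Module (ZMod p) M]

local notation "𝔾" => LinearMap.GeneralLinearGroup (ZMod p) M
local notation "𝔼" => Module.End (ZMod p) M

/-- Every invariant subspace has an invariant complement. -/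
def IsSemisimpleFor (G : Subgroup (LinearMap.GeneralLinearGroup (ZMod p) M)) : Prop :=
  ∀ U : Submodule (ZMod p) M,
    (∀ g ∈ G, ∀ m ∈ U, (g : Module.End (ZMod p) M) m ∈ U) →
    ∃ U' : Submodule (ZMod p) M,
      (∀ g ∈ G, ∀ m ∈ U', (g : Module.End (ZMod p) M) m ∈ U') ∧ IsCompl U U'

variable {G : Subgroup (LinearMap.GeneralLinearGroup (ZMod p) M)}
variable [FiniteDimensional (ZMod p) M] (hp : 5 ≤ p) (hpure : NoUnipNormal G)
  (hgen : Subgroup.closure (quadraticElements G) = G)

include hp hpure hgen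

theorem le_compGroup_sup (A : Subgroup 𝔾) :
    G ≤ compGroup G A ⊔ (G ⊓ Subgroup.centralizer (compGroup G A : Set 𝔾)) := by
  refine (coreGroup_cocentral (two_ne hp) (card_ne_three hp) hpure hgen).ge.trans ?_
  refine sup_le (iSup₂_le fun B hB => ?_) (le_sup_of_le_right (inf_le_inf_left _
    (Subgroup.centralizer_le (SetLike.coe_subset_coe.mpr compGroup_le_core))))
  by_cases h : Conn G A B
  · exact (le_compGroup ⟨hB, h⟩).trans le_sup_left
  · refine le_sup_of_le_right (le_inf (sigma_le hB) ?_)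
    refine (le_compGroup (self_mem_compSet hB)).trans ?_
    exact Subgroup.commutator_eq_bot_iff_le_centralizer.mp (by
      rw [Subgroup.commutator_comm]
      exact compGroup_commute (two_ne hp) (card_ne_three hp) hpure h)

omit hpure hgen in
/-- The W-block of qK preserves every subspace of the range invariant under the stabiliser. -/
theorem block_mem {a y : 𝔼} (ha : IsMin G a) (hym : IsMin G y) (hay : IsOpp a y)
    (y1 : a * y * a = a) (y2 : y * a * y = y) {F : Submodule (ZMod p) M}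
    (hF : F ≤ LinearMap.range a)
    (hinv : ∀ g ∈ G, conjBy (rootGroup G a) g = rootGroup G a → ∀ w ∈ F, (g : 𝔼) w ∈ F)
    {q : 𝔾} (hq : q ∈ qK G a) {w : M} (hw : w ∈ F) : (a * y * (q : 𝔼) * y) w ∈ F := by
  have hefix : ∀ v ∈ LinearMap.range a, (a * y) v = v := by
    rintro _ ⟨m, rfl⟩
    rw [← Module.End.mul_apply, y1]
  have key : ∀ g ∈ qK G a, IsOpp y (conjEnd g y) → ∀ v ∈ F, (a * y * (g : 𝔼) * y) v ∈ F := by
    intro g hg hopp v hv
    have hgG := qK_le a hg
    obtain ⟨q', hq', hq'c⟩ :=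
      exists_qK_conj hp hym ha hay.symm (hym.conj hgG) hopp
    set w₀ := oneAddUnit a ha.sq * (oneAddUnit y hym.sq)⁻¹ * oneAddUnit a ha.sq with hw₀
    have hw₀G : w₀ ∈ G :=
      mul_mem (mul_mem ha.unit_mem (inv_mem hym.unit_mem)) ha.unit_mem
    have hw₀v : (w₀ : 𝔼) = 1 + a - y - a * y - y * a := by
      rw [hw₀, Units.val_mul, Units.val_mul, coe_oneAddUnit, coe_oneAddUnit_inv, weyl_val ha.sq y1]
    have hw₀A : conjBy (rootGroup G a) w₀ = rootGroup G y := by
      rw [conjBy_rootGroup hw₀G]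
      exact rootGroup_congr
        (weyl_conj_space ha hym ha.self_mem ha.ne_zero hym.self_mem hym.ne_zero y1 y2 hw₀v)
    have hGA : conjBy (rootGroup G a) (q'⁻¹ * g * w₀) = rootGroup G a := by
      rw [← conjBy_conjBy, ← conjBy_conjBy, hw₀A, conjBy_rootGroup hgG, ← hq'c, conjBy_inv_cancel]
    have hmem := hinv _ (mul_mem (mul_mem (inv_mem (qK_le y hq')) hgG) hw₀G) hGA v hv
    obtain ⟨m, rfl⟩ := hF hv
    have hyq : y * ((q'⁻¹ : 𝔾) : 𝔼) = y := qCore_mul_right (inv_mem hq'.1)
    have hwa : (w₀ : 𝔼) * a = -(y * a) := by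
      rw [hw₀v, show (1 + a - y - a * y - y * a) * a =
        a + a * a - y * a - a * y * a - y * (a * a) by noncomm_ring, ha.sq, y1, mul_zero]
      abel
    have hval : a * y * ((q'⁻¹ * g * w₀ : 𝔾) : 𝔼) * a = -(a * y * (g : 𝔼) * y * a) := by
      rw [Units.val_mul, Units.val_mul]
      calc a * y * (((q'⁻¹ : 𝔾) : 𝔼) * (g : 𝔼) * (w₀ : 𝔼)) * a
          = a * (y * ((q'⁻¹ : 𝔾) : 𝔼)) * (g : 𝔼) * ((w₀ : 𝔼) * a) := by simp only [mul_assoc]
        _ = _ := by rw [hyq, hwa, mul_neg]; simp only [mul_assoc]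
    have h1 := LinearMap.congr_fun hval m
    rw [Module.End.mul_apply, Module.End.mul_apply, LinearMap.neg_apply,
      Module.End.mul_apply (a * y * (g : 𝔼) * y) a, hefix _ (hF hmem)] at h1
    have := neg_mem hmem
    rwa [h1, neg_neg] at this
  set α := oneAddUnit a ha.sq with hα
  have hαq : α ∈ qK G a := rootGroup_le_qK ha (oneAddUnit_mem ha.self_mem ha.sq)
  set e := a * y with he
  have hee : e * e = e := by rw [he, ← mul_assoc, y1]
  set φ := a * y * (q : 𝔼) * y with hφ
  set φ' := a * y * ((q⁻¹ : 𝔾) : 𝔼) * y with hφ'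
  have hqa := qCore_mul_left hq.1
  have haq := qCore_mul_right (inv_mem hq.1)
  have v1 : a * y * ((q * α : 𝔾) : 𝔼) * y = φ + e := by
    rw [Units.val_mul, coe_oneAddUnit, mul_add, mul_one, hqa, mul_add, add_mul, y1]
  have v2 : a * y * (((q * α)⁻¹ : 𝔾) : 𝔼) * y = φ' - e := by
    rw [mul_inv_rev, Units.val_mul, coe_oneAddUnit_inv, sub_mul, one_mul, haq, mul_sub, sub_mul, y1]
  have v3 : a * y * ((q * α⁻¹ : 𝔾) : 𝔼) * y = φ - e := by
    rw [Units.val_mul, coe_oneAddUnit_inv, mul_sub, mul_one, hqa, mul_sub, sub_mul, y1]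
  have v4 : a * y * (((q * α⁻¹)⁻¹ : 𝔾) : 𝔼) * y = φ' + e := by
    rw [mul_inv_rev, inv_inv, Units.val_mul, coe_oneAddUnit, add_mul, one_mul, haq, mul_add,
      add_mul, y1]
  have hzero : ∀ g ∈ qK G a, ¬ IsOpp y (conjEnd g y) →
      (a * y * (g : 𝔼) * y) * (a * y * ((g⁻¹ : 𝔾) : 𝔼) * y) = 0 := by
    intro g hg hn
    have h := (nilpotent_case (two_ne hp) hym (hym.conj (qK_le a hg)) (not_not.mp hn)).1
    calc (a * y * (g : 𝔼) * y) * (a * y * ((g⁻¹ : 𝔾) : 𝔼) * y)
        = a * (y * ((g : 𝔼) * (y * a * y) * ((g⁻¹ : 𝔾) : 𝔼)) * y) := by simp only [mul_assoc]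
      _ = a * (y * conjEnd g y * y) := by rw [y2, conjEnd]
      _ = 0 := by rw [h, mul_zero]
  have hew : e w = w := hefix w (hF hw)
  by_cases h0 : IsOpp y (conjEnd q y)
  · exact key q hq h0 w hw
  by_cases h1 : IsOpp y (conjEnd (q * α) y)
  · have := key _ (mul_mem hq hαq) h1 w hw
    rw [v1, LinearMap.add_apply, hew] at this
    have := sub_mem this hw
    rwa [add_sub_cancel_right] at this
  by_cases h2 : IsOpp y (conjEnd (q * α⁻¹) y)
  · have := key _ (mul_mem hq (inv_mem hαq)) h2 w hw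
    rw [v3, LinearMap.sub_apply, hew] at this
    have := add_mem this hw
    rwa [sub_add_cancel] at this
  exfalso
  have z0 := hzero q hq h0
  have z1 := hzero _ (mul_mem hq hαq) h1
  have z2 := hzero _ (mul_mem hq (inv_mem hαq)) h2
  rw [v1, v2] at z1
  rw [v3, v4] at z2
  have h2e : (2 : ZMod p) • e = 0 := by
    rw [two_smul]
    calc e + e = e * e + e * e := by rw [hee]
      _ = (φ * φ' + φ * φ') - ((φ + e) * (φ' - e) + (φ - e) * (φ' + e)) := by noncomm_ring
      _ = 0 := by rw [z1, z2, show φ * φ' = 0 from z0]; simp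
  refine ha.ne_zero ?_
  rw [← y1]
  show e * a = 0
  rw [(smul_eq_zero.mp h2e).resolve_left (two_ne hp), zero_mul]

/-- A p-subgroup normalised by the stabiliser of a member fixes its range pointwise. -/
theorem fixed_range (hss : IsSemisimpleFor G) {a : 𝔼} (ha : IsMin G a) {P₀ : Subgroup 𝔾}
    (hP : IsPGroup p P₀) (hPG : P₀ ≤ G)
    (hPA : ∀ g ∈ P₀, conjBy (rootGroup G a) g = rootGroup G a)
    (hPn : ∀ g ∈ G, conjBy (rootGroup G a) g = rootGroup G a → conjBy P₀ g = P₀) :
    ∀ g ∈ P₀, (g : 𝔼) * a = a := by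
  haveI : Finite M := Module.finite_of_finite (ZMod p)
  obtain ⟨g₀, hg₀, hab⟩ := exists_opposite (two_ne hp) (card_ne_three hp) hpure ha
  obtain ⟨y, hy, hy0, y1, y2⟩ := exists_pseudo hp ha (ha.conj hg₀) hab
  have hym := (ha.conj hg₀).isMin_of_mem hy hy0
  have hay : IsOpp a y :=
    hab.of_mem (two_ne hp) (card_ne_three hp) ha (ha.conj hg₀) ha.self_mem ha.ne_zero hy hy0
  clear hy hab
  have hrange : ∀ g ∈ G, conjBy (rootGroup G a) g = rootGroup G a →
      ∀ w ∈ LinearMap.range a, (g : 𝔼) w ∈ LinearMap.range a := by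
    intro g hg hgA w hw
    rw [conjBy_rootGroup hg] at hgA
    have hm := (ha.conj hg)
    have e := ha.range_eq (rootSpace_eq_of_rootGroup hgA ▸ hm.self_mem) hm.ne_zero
    rw [range_conjEnd] at e
    exact e.le ⟨w, hw, rfl⟩
  let F : Submodule (ZMod p) M :=
    { carrier := {w | w ∈ LinearMap.range a ∧ ∀ g ∈ P₀, (g : 𝔼) w = w}
      zero_mem' := ⟨zero_mem _, fun g _ => map_zero _⟩
      add_mem' := fun hu hv => ⟨add_mem hu.1 hv.1, fun g hg => by rw [map_add, hu.2 g hg, hv.2 g hg]⟩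
      smul_mem' := fun c u hu => ⟨Submodule.smul_mem _ c hu.1,
        fun g hg => by rw [map_smul, hu.2 g hg]⟩ }
  have hFa : F ≤ LinearMap.range a := fun w hw => hw.1
  have hFinv : ∀ g ∈ G, conjBy (rootGroup G a) g = rootGroup G a → ∀ w ∈ F, (g : 𝔼) w ∈ F := by
    intro g hg hgA w hw
    refine ⟨hrange g hg hgA w hw.1, fun z hz => ?_⟩
    have hz' : g⁻¹ * z * g ∈ P₀ := mem_conjBy.mp ((hPn g hg hgA).symm ▸ hz)
    calc (z : 𝔼) ((g : 𝔼) w) = ((g * (g⁻¹ * z * g) : 𝔾) : 𝔼) w := by
          rw [show g * (g⁻¹ * z * g) = z * g by group, Units.val_mul, Module.End.mul_apply]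
      _ = (g : 𝔼) w := by rw [Units.val_mul, Module.End.mul_apply, hw.2 _ hz']
  have hefix : ∀ v ∈ LinearMap.range a, (a * y) v = v := by
    rintro _ ⟨m, rfl⟩
    rw [← Module.End.mul_apply, y1]
  set F' := F.map y with hF'
  -- the root space of y maps F into F'
  have hroot : ∀ y' ∈ rootSpace G y, ∀ w ∈ F, y' w ∈ F' := by
    intro y' hy' w hw
    rcases eq_or_ne y' 0 with rfl | hy'0
    · exact zero_mem _
    have hy'm := hym.isMin_of_mem hy' hy'0
    obtain ⟨x', hx', hx'0, x1, x2⟩ :=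
      exists_partner (two_ne hp) (card_ne_three hp) hym ha hay.symm hy' hy'0
    have hxy : ∀ v ∈ F, (x' * y) v ∈ F := by
      intro v hv
      have hu := oneAddUnit_mem hx' (mul_eq_zero_of_mem hx' hx')
      have h := block_mem hp ha hym hay y1 y2 hFa hFinv (rootGroup_le_qK ha hu) hv
      have e : a * y * x' = x' := by
        refine LinearMap.ext fun m => ?_
        exact hefix _ (hx'.1 ⟨m, rfl⟩)
      rwa [coe_oneAddUnit, mul_add, mul_one, add_mul, mul_assoc a y y, hym.sq, mul_zero, zero_add,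
        e] at h
    let f : F →ₗ[ZMod p] F := (x' * y).restrict hxy
    have hinj : Function.Injective f := by
      rw [← LinearMap.ker_eq_bot, LinearMap.ker_eq_bot']
      intro v hv
      have h0 : x' (y v) = 0 := congrArg Subtype.val hv
      have h1 : a (y v) = 0 := LinearMap.mem_ker.mp ((ha.ker_eq hx' hx'0).le (LinearMap.mem_ker.mpr h0))
      refine Subtype.ext ?_
      rw [← hefix v (hFa v.2), Module.End.mul_apply, h1]
      rfl
    obtain ⟨v, hv⟩ := Finite.surjective_of_injective hinj ⟨w, hw⟩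
    have hv' : x' (y v) = w := congrArg Subtype.val hv
    refine ⟨v, v.2, ?_⟩
    have hfix : y' * x' * y = y := by
      refine LinearMap.ext fun m => ?_
      obtain ⟨n, hn⟩ := (hym.range_eq hy' hy'0).ge ⟨m, rfl⟩
      rw [Module.End.mul_apply, ← hn, ← Module.End.mul_apply, x1]
    rw [← hv', ← Module.End.mul_apply y' x', ← Module.End.mul_apply, hfix]
  set M1 : Submodule (ZMod p) M := F ⊔ ⨆ q ∈ qK G a, F'.map (q : 𝔼) with hM1
  have hF'M : F' ≤ M1 := le_sup_of_le_right
    (le_iSup₂_of_le (1 : 𝔾) (one_mem _) (by rw [Units.val_one, Module.End.one_eq_id, Submodule.map_id]))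
  have hgenM : ∀ g : 𝔾, (∀ w ∈ F, (g : 𝔼) w ∈ M1) →
      (∀ q ∈ qK G a, ∀ w ∈ F, (g : 𝔼) ((q : 𝔼) (y w)) ∈ M1) →
      ∀ m ∈ M1, (g : 𝔼) m ∈ M1 := by
    intro g h1 h2
    have hle : M1.map (g : 𝔼) ≤ M1 := by
      rw [hM1, Submodule.map_sup, Submodule.map_iSup]
      refine sup_le (fun _ hm => ?_) (iSup_le fun q => ?_)
      · obtain ⟨w, hw, rfl⟩ := hm
        exact h1 w hw
      · rw [Submodule.map_iSup]
        refine iSup_le fun hq => ?_
        rintro _ ⟨_, ⟨_, ⟨w, hw, rfl⟩, rfl⟩, rfl⟩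
        exact h2 q hq w hw
    exact fun m hm => hle ⟨m, hm, rfl⟩
  let T : Subgroup 𝔾 :=
    { carrier := {g | M1.map (g : 𝔼) = M1}
      one_mem' := by
        show M1.map ((1 : 𝔾) : 𝔼) = M1
        rw [Units.val_one, Module.End.one_eq_id, Submodule.map_id]
      mul_mem' := by
        intro g h hg hh
        show M1.map ((g * h : 𝔾) : 𝔼) = M1
        rw [Units.val_mul, Module.End.mul_eq_comp, Submodule.map_comp, hh, hg]
      inv_mem' := by
        intro g hg
        show M1.map ((g⁻¹ : 𝔾) : 𝔼) = M1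
        conv_lhs => rw [← show M1.map (g : 𝔼) = M1 from hg]
        rw [← Submodule.map_comp, ← Module.End.mul_eq_comp, Units.inv_mul, Module.End.one_eq_id,
          Submodule.map_id] }
  have hT : ∀ g : 𝔾, (∀ m ∈ M1, (g : 𝔼) m ∈ M1) → g ∈ T := by
    intro g hg
    show M1.map (g : 𝔼) = M1
    refine Submodule.eq_of_le_of_finrank_le (by rintro _ ⟨m, hm, rfl⟩; exact hg m hm) ?_
    exact (Submodule.equivMapOfInjective _ (unit_injective g) _).finrank_eq.le
  have hGT : G ≤ T := by
    refine (le_compGroup_sup hp hpure hgen (rootGroup G a)).trans (sup_le ?_ ?_)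
    · refine (compGroup_le_sup hp ha hym hay hpure).trans (sup_le (fun g hg => hT g (hgenM g ?_ ?_))
        (fun g hg => hT g (hgenM g ?_ ?_)))
      · intro w hw
        obtain ⟨m, rfl⟩ := hFa hw
        rw [← Module.End.mul_apply, qCore_mul_left hg.1]
        exact Submodule.mem_sup_left hw
      · intro q hq w hw
        rw [← Module.End.mul_apply, ← Units.val_mul]
        exact Submodule.mem_sup_right (Submodule.mem_iSup_of_mem (g * q)
          (Submodule.mem_iSup_of_mem (mul_mem hg hq) ⟨_, ⟨w, hw, rfl⟩, rfl⟩))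
      · intro w hw
        have := hF'M (hroot _ (mem_rootGroup.mp hg) w hw)
        rw [LinearMap.sub_apply, Module.End.one_apply] at this
        have := add_mem this (Submodule.mem_sup_left hw : w ∈ M1)
        rwa [sub_add_cancel] at this
      · intro q hq w hw
        have hmem := mem_rootGroup.mp hg
        set y' := (g : 𝔼) - 1 with hy'def
        have hy'e : y' * (a * y) = y' := by
          have hk : y' * (1 - a * y) = 0 := LinearMap.range_le_ker_iff.mp
            ((LinearMap.range_le_ker_iff.mpr (show y ∘ₗ (1 - a * y) = 0 by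
              rw [← Module.End.mul_eq_comp, mul_sub, mul_one, ← mul_assoc, y2, sub_self])).trans
              ((mem_rootSpace hym.sq).mp hmem).2.1)
          rw [mul_sub, mul_one, sub_eq_zero] at hk
          exact hk.symm
        have hphi : (a * y * (q : 𝔼) * y) w ∈ F := block_mem hp ha hym hay y1 y2 hFa hFinv hq hw
        have h1 : y' ((q : 𝔼) (y w)) ∈ M1 := by
          have := hF'M (hroot y' hmem _ hphi)
          rw [← Module.End.mul_apply, show y' * (a * y * (q : 𝔼) * y) = y' * (a * y) * (q : 𝔼) * y by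
            simp only [mul_assoc], hy'e] at this
          exact this
        have h2 : (q : 𝔼) (y w) ∈ M1 := Submodule.mem_sup_right (Submodule.mem_iSup_of_mem q
          (Submodule.mem_iSup_of_mem hq ⟨_, ⟨w, hw, rfl⟩, rfl⟩))
        rw [hy'def, LinearMap.sub_apply, Module.End.one_apply] at h1
        have := add_mem h1 h2
        rwa [sub_add_cancel] at this
    · rintro g ⟨hgG, hgc⟩
      have hcA : ∀ k ∈ compGroup G (rootGroup G a), g * k = k * g :=
        fun k hk => (Subgroup.mem_centralizer_iff.mp hgc k hk).symm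
      have hgA : conjBy (rootGroup G a) g = rootGroup G a :=
        fix_of_commute fun k hk => hcA k (le_compGroup (self_mem_compSet ha.mem_sigma) hk)
      have hgy : (g : 𝔼) * y = y * (g : 𝔼) := by
        have hu := le_compGroup_opp hp ha hym hay (oneAddUnit_mem hym.self_mem hym.sq)
        have h := congrArg Units.val (hcA _ hu)
        rw [Units.val_mul, Units.val_mul, coe_oneAddUnit, mul_add, mul_one, add_mul, one_mul,
          add_right_inj] at h
        exact h
      refine hT g (hgenM g (fun w hw => Submodule.mem_sup_left (hFinv g hgG hgA w hw)) ?_)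
      intro q hq w hw
      rw [← Module.End.mul_apply, ← Units.val_mul, hcA q hq.2, Units.val_mul, Module.End.mul_apply,
        ← Module.End.mul_apply (g : 𝔼) y, hgy, Module.End.mul_apply]
      exact Submodule.mem_sup_right (Submodule.mem_iSup_of_mem q
        (Submodule.mem_iSup_of_mem hq ⟨_, ⟨_, hFinv g hgG hgA w hw, rfl⟩, rfl⟩))
  obtain ⟨M2, hM2, hcompl⟩ := hss M1 (fun g hg m hm => (hGT hg).le ⟨m, hm, rfl⟩)
  have hW : LinearMap.range a ⊓ M2 = ⊥ := by
    by_contra hne
    obtain ⟨v, hv, hv0, hfix⟩ := exists_fixed_vector hP _ hne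
      (fun g hg m hm => ⟨hrange g (hPG hg) (hPA g hg) m hm.1, hM2 g (hPG hg) m hm.2⟩)
    have : v ∈ M1 ⊓ M2 := ⟨Submodule.mem_sup_left (show v ∈ F from ⟨hv.1, hfix⟩), hv.2⟩
    rw [hcompl.inf_eq_bot, Submodule.mem_bot] at this
    exact hv0 this
  have hM1a : ∀ m ∈ M1, a m ∈ F := by
    have hle : M1.map a ≤ F := by
      rw [hM1, Submodule.map_sup, Submodule.map_iSup]
      refine sup_le (fun _ hm => ?_) (iSup_le fun q => ?_)
      · obtain ⟨w, hw, rfl⟩ := hm
        obtain ⟨m, rfl⟩ := hFa hw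
        rw [← Module.End.mul_apply, ha.sq]
        exact zero_mem F
      · rw [Submodule.map_iSup]
        refine iSup_le fun hq => ?_
        rintro _ ⟨_, ⟨_, ⟨w, hw, rfl⟩, rfl⟩, rfl⟩
        rw [← Module.End.mul_apply, qCore_mul_right hq.1, ← Module.End.mul_apply, hefix w (hFa hw)]
        exact hw
    exact fun m hm => hle ⟨m, hm, rfl⟩
  intro g hg
  refine LinearMap.ext fun m => ?_
  obtain ⟨m1, hm1, m2, hm2, rfl⟩ := Submodule.mem_sup.mp
    (hcompl.sup_eq_top ▸ Submodule.mem_top : m ∈ M1 ⊔ M2)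
  have h2 : a m2 = 0 := by
    have h := sub_mem (hM2 _ ha.unit_mem m2 hm2) hm2
    rw [coe_oneAddUnit, LinearMap.add_apply, Module.End.one_apply, add_sub_cancel_left] at h
    exact (Submodule.eq_bot_iff _).mp hW _ ⟨⟨m2, rfl⟩, h⟩
  rw [Module.End.mul_apply, map_add, h2, add_zero]
  exact (hM1a m1 hm1).2 g hg

/-- No non trivial quadratic element of a component lies in normal p-subgroups of the stabilisers
of two opposite members. -/
theorem no_quadratic (hss : IsSemisimpleFor G) {a b : 𝔼} (ha : IsMin G a) (hb : IsMin G b)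
    (hab : IsOpp a b) {x : 𝔾} (hxK : x ∈ compGroup G (rootGroup G a))
    (hxq : ((x : 𝔼) - 1) * ((x : 𝔼) - 1) = 0) {P₀ P₁ : Subgroup 𝔾}
    (hP₀ : IsPGroup p P₀) (hP₀G : P₀ ≤ G)
    (hP₀A : ∀ g ∈ P₀, conjBy (rootGroup G a) g = rootGroup G a)
    (hP₀n : ∀ g ∈ G, conjBy (rootGroup G a) g = rootGroup G a → conjBy P₀ g = P₀) (hx₀ : x ∈ P₀)
    (hP₁ : IsPGroup p P₁) (hP₁G : P₁ ≤ G)
    (hP₁A : ∀ g ∈ P₁, conjBy (rootGroup G b) g = rootGroup G b)
    (hP₁n : ∀ g ∈ G, conjBy (rootGroup G b) g = rootGroup G b → conjBy P₁ g = P₁) (hx₁ : x ∈ P₁) :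
    x = 1 := by
  haveI : Finite 𝔾 := finite_gl
  by_contra hx1
  set u := (x : 𝔼) - 1 with hu
  have hxu : x = oneAddUnit u hxq := Units.ext (by rw [coe_oneAddUnit, hu]; abel)
  have hxG : x ∈ G := hP₀G hx₀
  have hkill : ∀ (c : 𝔼) (hc : IsMin G c) (P : Subgroup 𝔾), IsPGroup p P → P ≤ G →
      (∀ g ∈ P, conjBy (rootGroup G c) g = rootGroup G c) →
      (∀ g ∈ G, conjBy (rootGroup G c) g = rootGroup G c → conjBy P g = P) → x ∈ P →
      u * c = 0 ∧ c * u = 0 := by
    intro c hc P hP hPG hPA hPn hxP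
    have h1 : u * c = 0 := by
      rw [hu, sub_mul, one_mul, fixed_range hp hpure hgen hss hc hP hPG hPA hPn x hxP, sub_self]
    refine ⟨h1, ?_⟩
    have h2 : c * u ∈ rootSpace G c := by
      have hm : conjEnd x c ∈ rootSpace G c := by
        have := hPA x hxP
        rw [conjBy_rootGroup hxG] at this
        exact rootSpace_eq_of_rootGroup this ▸ (hc.conj hxG).self_mem
      have := sub_mem hc.self_mem hm
      rw [hxu, conjEnd, coe_oneAddUnit, coe_oneAddUnit_inv,
        show c - (1 + u) * c * (1 - u) = c * u - (u * c) + (u * c) * u by noncomm_ring, h1] at this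
      simpa using this
    by_contra h0
    have hker := hc.ker_eq h2 h0
    refine h0 (LinearMap.range_le_ker_iff.mp (le_trans (LinearMap.range_le_ker_iff.mpr ?_) hker.le))
    rw [← Module.End.mul_eq_comp, mul_assoc, hxq, mul_zero]
  obtain ⟨ua, au⟩ := hkill a ha P₀ hP₀ hP₀G hP₀A hP₀n hx₀
  obtain ⟨ub, bu⟩ := hkill b hb P₁ hP₁ hP₁G hP₁A hP₁n hx₁
  have hu0 : u ≠ 0 := fun h => hx1 (Units.ext (sub_eq_zero.mp h))
  have huq : IsQuad G u := isQuad_mk hu0 hxq (by
    rw [hu, add_sub_cancel]; exact InG.of_unit hxG)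
  obtain ⟨z, hz, hzu⟩ : ∃ z, IsMin G z ∧ ¬ IsNilpotent (z * u) := by
    by_contra hcon
    push Not at hcon
    refine hx1 (eq_one_of_central hp ha hpure hgen hxK (by rw [hxu, oneAdd_pow_p]) ?_)
    have hc := mem_centralizer_coreGroup (G := G) (u := x)
      (fun w hw => commute_of_all_nilpotent (two_ne hp) (card_ne_three hp) hpure huq hcon hw)
    exact fun k hk => (Subgroup.mem_centralizer_iff.mp hc k (compGroup_le_core hk)).symm
  obtain ⟨y, hy, hyr, hry, -, -, hzr, hrz, hyu, hky⟩ :=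
    exists_min_split_ext (two_ne hp) (card_ne_three hp) hz huq hzu
  set r := u - y with hr
  have hzy : z * y = z * u := by
    rw [hr, mul_sub, sub_eq_zero] at hzr; exact hzr.symm
  have hyz : IsOpp y z := IsOpp.symm (a := z) (fun h => hzu (hzy ▸ h))
  have kill : ∀ c : 𝔼, u * c = 0 → c * u = 0 → y * c = 0 ∧ c * y = 0 := fun c h1 h2 =>
    ⟨LinearMap.range_le_ker_iff.mp ((LinearMap.range_le_ker_iff.mpr h1).trans hky),
      LinearMap.range_le_ker_iff.mp (hyu.trans (LinearMap.range_le_ker_iff.mpr h2))⟩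
  obtain ⟨ya, ay⟩ := kill a ua au
  obtain ⟨yb, b_y⟩ := kill b ub bu
  obtain ⟨s, t, hs, ht, htm⟩ := exists_proj hp ha hb hab
  have htG : t ∈ G := (sup_le rootGroup_le rootGroup_le : _ ≤ G) htm
  obtain ⟨w, hw, hw0, w1, w2⟩ := exists_pseudo hp ha hb hab
  have es := hs.unique (isProj_partner hp ha hb hab hw hw0 w1 w2)
  have hsz : ∀ v : 𝔼, v * a = 0 → a * v = 0 → v * b = 0 → b * v = 0 → v * s = 0 ∧ s * v = 0 := by
    intro v h1 h2 h3 h4
    have h5 : v * w = 0 := LinearMap.range_le_ker_iff.mp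
      (hw.1.trans (LinearMap.range_le_ker_iff.mpr h3))
    have h6 : w * v = 0 := LinearMap.range_le_ker_iff.mp
      ((LinearMap.range_le_ker_iff.mpr h4).trans ((mem_rootSpace hb.sq).mp hw).2.1)
    rw [es]
    exact ⟨by rw [mul_add, ← mul_assoc, ← mul_assoc, h1, h5, zero_mul, zero_mul, add_zero],
      by rw [add_mul, mul_assoc, mul_assoc, h2, h6, mul_zero, mul_zero, add_zero]⟩
  obtain ⟨ys, sy⟩ := hsz y ya ay yb b_y
  have htt : t * t = 1 := Units.ext (by
    rw [Units.val_mul, ht, Units.val_one,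
      show (1 - s - s) * (1 - s - s) = 1 + (s * s - s) + (s * s - s) + (s * s - s) + (s * s - s) by
        noncomm_ring, hs.idem, sub_self]
    simp)
  have hti : t⁻¹ = t := inv_eq_of_mul_eq_one_right htt
  have htfix : ∀ v : 𝔼, v * s = 0 → s * v = 0 → conjEnd t v = v := by
    intro v h1 h2
    rw [conjEnd, hti, ht, show (1 - s - s) * v * (1 - s - s) =
      v - v * s - v * s - s * v - s * v + (s * v) * (s + s) + (s * v) * (s + s) by noncomm_ring,
      h1, h2]
    simp
  have hrab : r * a = 0 ∧ a * r = 0 ∧ r * b = 0 ∧ b * r = 0 := by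
    rw [hr]
    exact ⟨by rw [sub_mul, ua, ya, sub_zero], by rw [mul_sub, au, ay, sub_zero],
      by rw [sub_mul, ub, yb, sub_zero], by rw [mul_sub, bu, b_y, sub_zero]⟩
  obtain ⟨rs, sr⟩ := hsz r hrab.1 hrab.2.1 hrab.2.2.1 hrab.2.2.2
  have hrr : r * r = 0 := by
    calc r * r = u * u - y * y - y * (u - y) - (u - y) * y := by rw [hr]; noncomm_ring
      _ = 0 := by rw [hxq, hy.sq, hyr, hry]; simp
  set ρ := oneAddUnit r hrr with hρ
  -- opposites of y annihilating r
  let Ω : Set (Subgroup 𝔾) :=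
    {E | ∃ e, IsMin G e ∧ E = rootGroup G e ∧ IsOpp y e ∧ e * r = 0 ∧ r * e = 0}
  have hΩconj : ∀ g ∈ G, conjEnd g y = y → conjEnd g r = r → ∀ E ∈ Ω, conjBy E g ∈ Ω := by
    rintro g hg gy gr _ ⟨e, he, rfl, h1, h2, h3⟩
    refine ⟨conjEnd g e, he.conj hg, conjBy_rootGroup hg, ?_, ?_, ?_⟩
    · rw [← gy]; exact (isOpp_conj g).mpr h1
    · rw [← gr, conjEnd_mul, h2]; simp [conjEnd]
    · rw [← gr, conjEnd_mul, h3]; simp [conjEnd]
  let H : Subgroup 𝔾 := qCore G y ⊓ Subgroup.centralizer {ρ}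
  have hcentr : ∀ g : 𝔾, g ∈ Subgroup.centralizer {ρ} → conjEnd g r = r := by
    intro g hg
    have h := congrArg Units.val (Subgroup.mem_centralizer_singleton_iff.mp hg)
    rw [Units.val_mul, Units.val_mul, hρ, coe_oneAddUnit, mul_add, mul_one, add_mul, one_mul,
      add_right_inj] at h
    rw [conjEnd, h, mul_assoc, Units.mul_inv, mul_one]
  have hroot : ∀ e : 𝔼, e * e = 0 → e * r = 0 → r * e = 0 →
      rootGroup G e ≤ Subgroup.centralizer {ρ} := by
    intro e hee h1 h2 g hg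
    obtain ⟨g1, g2, -⟩ := (mem_rootSpace hee).mp hg
    have e1 : ((g : 𝔼) - 1) * r = 0 := LinearMap.range_le_ker_iff.mp
      ((LinearMap.range_le_ker_iff.mpr h1).trans g2)
    have e2 : r * ((g : 𝔼) - 1) = 0 := LinearMap.range_le_ker_iff.mp
      (g1.trans (LinearMap.range_le_ker_iff.mpr h2))
    rw [Subgroup.mem_centralizer_singleton_iff]
    refine commute_units ?_
    rw [hρ, coe_oneAddUnit, add_sub_cancel_left, e1, e2]
  have hΩ₀ : rootGroup G z ∈ Ω := ⟨z, hz, rfl, hyz, hzr, hrz⟩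
  haveI : Fact (Nat.Prime 2) := ⟨Nat.prime_two⟩
  obtain ⟨E, hE, hfix⟩ := exists_fixed (p := p) (r := 2)
    (fun g E => conjBy E g) conjBy_one (fun g h E => (conjBy_conjBy E g h).symm)
    ((qCore_isPGroup hp y).to_le inf_le_left : IsPGroup p H)
    (show IsPGroup 2 (Subgroup.zpowers t) from fun g => ⟨1, by
      obtain ⟨k, hk⟩ := Subgroup.mem_zpowers_iff.mp g.2
      refine Subtype.ext ?_
      rw [pow_one, SubmonoidClass.coe_pow, ← hk, ← zpow_natCast, ← zpow_mul, mul_comm, zpow_mul,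
        zpow_natCast, sq, htt, one_zpow]
      rfl⟩)
    (by omega) hΩ₀
    (fun g hg E hE => hΩconj g hg.1.1 (qCore_commute hg.1 hy.self_mem) (hcentr g hg.2) E hE)
    (by
      rintro _ ⟨e, he, rfl, h1, h2, h3⟩
      obtain ⟨q, hq, hqs, hqe⟩ := exists_qCore_conj hp hy hz hyz he h1
      exact ⟨q, ⟨hq, (sup_le (sup_le (hroot y hy.sq hyr hry) (hroot z hz.sq hzr hrz))
        (hroot e he.sq h2 h3)) hqs⟩, hqe⟩)
    (fun g hg E hE => by
      have hle : Subgroup.zpowers t ≤ G := Subgroup.zpowers_le.mpr htG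
      obtain ⟨k, rfl⟩ := Subgroup.mem_zpowers_iff.mp hg
      have hct : t ∈ Subgroup.centralizer {ρ} := by
        rw [Subgroup.mem_centralizer_singleton_iff]
        refine commute_units ?_
        rw [hρ, coe_oneAddUnit, add_sub_cancel_left, ht,
          show (1 - s - s - 1) * r = -(s * r) - s * r by noncomm_ring,
          show r * (1 - s - s - 1) = -(r * s) - r * s by noncomm_ring, sr, rs]
      have hyt : t ∈ Subgroup.centralizer {oneAddUnit y hy.sq} := by
        rw [Subgroup.mem_centralizer_singleton_iff]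
        refine commute_units ?_
        rw [coe_oneAddUnit, add_sub_cancel_left, ht,
          show (1 - s - s - 1) * y = -(s * y) - s * y by noncomm_ring,
          show y * (1 - s - s - 1) = -(y * s) - y * s by noncomm_ring, sy, ys]
      refine hΩconj _ (hle hg) ?_ (hcentr _ (zpow_mem hct k)) E hE
      have h := congrArg Units.val (Subgroup.mem_centralizer_singleton_iff.mp (zpow_mem hyt k))
      rw [Units.val_mul, Units.val_mul, coe_oneAddUnit, mul_add, mul_one, add_mul, one_mul,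
        add_right_inj] at h
      rw [conjEnd, h, mul_assoc, Units.mul_inv, mul_one])
  obtain ⟨e₀, he₀, rfl, hye₀, he₀r, hre₀⟩ := hE
  obtain ⟨e, he', he0, e1, e2⟩ := exists_pseudo hp hy he₀ hye₀
  have hem := he₀.isMin_of_mem he' he0
  have hete : conjEnd t e = e := by
    have hm : conjEnd t e ∈ rootSpace G e₀ := by
      have h := hfix t (Subgroup.mem_zpowers t)
      rw [conjBy_rootGroup htG] at h
      exact rootSpace_eq_of_rootGroup h ▸ conjEnd_mem htG he'
    refine partner_unique hp hy he₀ hye₀ hy.self_mem hy.ne_zero hm he' ?_ e1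
    conv_lhs => rw [← htfix y ys sy]
    rw [conjEnd_mul, conjEnd_mul, e1, htfix y ys sy]
  have hes : e * s = 0 ∧ s * e = 0 := by
    have hc : (t : 𝔼) * e = e * (t : 𝔼) := by
      conv_rhs => rw [← hete]
      rw [conjEnd, mul_assoc ((t : 𝔼) * e), Units.inv_mul, mul_one]
    have hse : s * e = e * s := by
      rw [ht] at hc
      have e3 : (2 : ZMod p) • (s * e - e * s) = 0 := by
        rw [two_smul]
        calc s * e - e * s + (s * e - e * s)
            = e * (1 - s - s) - (1 - s - s) * e := by noncomm_ring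
          _ = 0 := by rw [hc, sub_self]
      exact sub_eq_zero.mp ((smul_eq_zero.mp e3).resolve_left (two_ne hp))
    have h0 : e * s = 0 := by
      conv_lhs => rw [← e2]
      rw [mul_assoc (e * y), ← hse, ← mul_assoc, mul_assoc e y s, ys, mul_zero, zero_mul]
    exact ⟨h0, hse.trans h0⟩
  have hea : e * a = 0 := by rw [← hs.left_a, ← mul_assoc, hes.1, zero_mul]
  have hae : a * e = 0 := by rw [← hs.right_a, mul_assoc, hes.2, mul_zero]
  set ε := oneAddUnit e hem.sq with hε
  have hεA : conjBy (rootGroup G a) ε = rootGroup G a := by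
    rw [conjBy_rootGroup hem.unit_mem, conjEnd, coe_oneAddUnit, coe_oneAddUnit_inv, add_mul,
      one_mul, hea, add_zero, mul_sub, mul_one, hae, sub_zero]
  have hεP : Subgroup.zpowers ε ≤ Subgroup.normalizer (P₀ : Set 𝔾) :=
    Subgroup.zpowers_le.mpr (conjBy_eq_self_iff.mp (hP₀n ε hem.unit_mem hεA))
  have hεp : IsPGroup p (Subgroup.zpowers ε) :=
    (rootGroup_le_qCore hem.sq |> fun h => (qCore_isPGroup hp e).to_le
      ((Subgroup.zpowers_le.mpr (oneAddUnit_mem hem.self_mem hem.sq)).trans h))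
  have hsup : IsPGroup p (P₀ ⊔ Subgroup.zpowers ε : Subgroup 𝔾) := hP₀.to_sup_of_normal_left' hεp hεP
  have hnil : IsNilpotent (e * u) := by
    refine isNilpotent_of_unipotent (isUnipotentOn_of_isPGroup hsup) ?_ ?_
    · have := sub_one_mem_augSpan (H := P₀ ⊔ Subgroup.zpowers ε)
        (Subgroup.mem_sup_right (Subgroup.mem_zpowers ε))
      rwa [hε, coe_oneAddUnit, add_sub_cancel_left] at this
    · exact sub_one_mem_augSpan (H := P₀ ⊔ Subgroup.zpowers ε) (Subgroup.mem_sup_left hx₀)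
  have her : e * r = 0 := LinearMap.range_le_ker_iff.mp
    ((LinearMap.range_le_ker_iff.mpr he₀r).trans ((mem_rootSpace he₀.sq).mp he').2.1)
  rw [hr, mul_sub, sub_eq_zero] at her
  rw [her] at hnil
  exact hye₀.of_mem (two_ne hp) (card_ne_three hp) hy he₀ hy.self_mem hy.ne_zero he' he0
    (isNilpotent_swap hnil)

end Cfsg.Agent.FlavellQuad
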