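import Cfsg.Agent.FlavellQuad.Case

/-!
# A quadratic element in all invariant Sylow subgroups: the irreducible case
-/

set_option autoImplicit false

namespace Cfsg.Agent.FlavellQuad

open Cfsg
open Cfsg.Agent.RootSub Cfsg.Agent.RootSub.Quad

variable {p : ℕ} [Fact p.Prime] {M : Type*} [AddCommGroup M] [Module (ZMod p) M]
variable [FiniteDimensional (ZMod p) M]

local notation "𝔾" => LinearMap.GeneralLinearGroup (ZMod p) M
local notation "𝔼" => Module.End (ZMod p) M

variable {G R : Subgroup (LinearMap.GeneralLinearGroup (ZMod p) M)}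

/-- A subspace is invariant under a group of linear maps. -/
def IsInv (H : Subgroup (LinearMap.GeneralLinearGroup (ZMod p) M)) (U : Submodule (ZMod p) M) :
    Prop :=
  ∀ g ∈ H, ∀ m ∈ U, (g : Module.End (ZMod p) M) m ∈ U

section

variable (hn : ∀ a ∈ R, conjBy G a = G)
  (hirr : ∀ U : Submodule (ZMod p) M, IsInv G U → IsInv R U → U = ⊥ ∨ U = ⊤)

include hn hirr

theorem opCore_eq_bot [Nontrivial M] : opCore p G = ⊥ := by
  haveI : Finite 𝔾 := finite_gl
  let W : Submodule (ZMod p) M :=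
    { carrier := {v | ∀ g ∈ opCore p G, (g : 𝔼) v = v}
      zero_mem' := fun g _ => map_zero _
      add_mem' := fun hu hv g hg => by rw [map_add, hu g hg, hv g hg]
      smul_mem' := fun c u hu g hg => by rw [map_smul, hu g hg] }
  have hW : ∀ a : 𝔾, conjBy (opCore p G) a = opCore p G → ∀ v ∈ W, (a : 𝔼) v ∈ W := by
    intro a ha v hv g hg
    have h' : a⁻¹ * g * a ∈ opCore p G := mem_conjBy.mp (ha.symm ▸ hg)
    calc (g : 𝔼) ((a : 𝔼) v) = ((a * (a⁻¹ * g * a) : 𝔾) : 𝔼) v := by
          rw [show a * (a⁻¹ * g * a) = g * a by group, Units.val_mul, Module.End.mul_apply]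
      _ = (a : 𝔼) v := by rw [Units.val_mul, Module.End.mul_apply, hv _ h']
  rcases hirr W (fun g hg => hW g (conjBy_opCore_self hg))
      (fun a ha => hW a (conjBy_opCore (hn a ha))) with h | h
  · obtain ⟨v, -, hv0, hv⟩ := exists_fixed_vector (opCore_isPGroup (p := p) G) ⊤ top_ne_bot
      (fun g _ m _ => Submodule.mem_top)
    have hm : v ∈ W := hv
    rw [h, Submodule.mem_bot] at hm
    exact absurd hm hv0
  · refine (Subgroup.eq_bot_iff_forall _).mpr fun g hg => Units.ext (LinearMap.ext fun m => ?_)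
    exact (show m ∈ W from h ▸ Submodule.mem_top) g hg

/-- Clifford's theorem. -/
theorem isSemisimpleFor_of_irreducible [Nontrivial M] : IsSemisimpleFor G := by
  haveI : Finite M := Module.finite_of_finite (ZMod p)
  haveI : Finite (Submodule (ZMod p) M) :=
    Finite.of_injective (fun U => (U : Set M)) SetLike.coe_injective
  -- a minimal invariant subspace
  obtain ⟨S, ⟨hSinv, hS0⟩, hSmin⟩ :=
    Set.Finite.exists_minimal (Set.toFinite {U : Submodule (ZMod p) M | IsInv G U ∧ U ≠ ⊥})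
      ⟨⊤, fun g _ m _ => Submodule.mem_top, top_ne_bot⟩
  have hTinv : ∀ a ∈ R, IsInv G (S.map (a : 𝔼)) := by
    rintro a ha g hg _ ⟨s, hs, rfl⟩
    have hg' : a⁻¹ * g * a ∈ G := mem_conjBy.mp ((hn a ha).symm ▸ hg)
    refine ⟨_, hSinv _ hg' s hs, ?_⟩
    rw [← Module.End.mul_apply, ← Units.val_mul, show a * (a⁻¹ * g * a) = g * a by group,
      Units.val_mul, Module.End.mul_apply]
  have hTmin : ∀ a ∈ R, ∀ Y : Submodule (ZMod p) M, IsInv G Y → Y ≤ S.map (a : 𝔼) →
      Y = ⊥ ∨ S.map (a : 𝔼) ≤ Y := by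
    intro a ha Y hY hle
    let Z : Submodule (ZMod p) M := Y.comap (a : 𝔼) ⊓ S
    have hZ : IsInv G Z := by
      intro g hg m hm
      refine ⟨?_, hSinv g hg m hm.2⟩
      have hg' : a * g * a⁻¹ ∈ G := hn a ha ▸ conjBy_mem hg a
      have := hY _ hg' _ hm.1
      rw [← Module.End.mul_apply, ← Units.val_mul, inv_mul_cancel_right, Units.val_mul,
        Module.End.mul_apply] at this
      exact this
    rcases eq_or_ne Z ⊥ with h0 | h0
    · left
      refine (Submodule.eq_bot_iff _).mpr fun y hy => ?_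
      obtain ⟨s, hs, rfl⟩ := hle hy
      have hm : s ∈ Z := ⟨hy, hs⟩
      rw [h0, Submodule.mem_bot] at hm
      rw [hm, map_zero]
    · right
      rintro _ ⟨s, hs, rfl⟩
      exact (hSmin ⟨hZ, h0⟩ inf_le_right hs).1
  have hsup : (⨆ a ∈ R, S.map (a : 𝔼)) = ⊤ := by
    set W := ⨆ a ∈ R, S.map (a : 𝔼) with hW
    have hle : ∀ a ∈ R, S.map (a : 𝔼) ≤ W := fun a ha =>
      le_iSup₂ (f := fun (a : 𝔾) (_ : a ∈ R) => S.map (a : 𝔼)) a ha
    have hG : IsInv G W := fun g hg => show W ≤ W.comap (g : 𝔼) from iSup₂_le fun a ha m hm =>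
      hle a ha (hTinv a ha g hg m hm)
    have hR : IsInv R W := fun b hb => show W ≤ W.comap (b : 𝔼) from iSup₂_le fun a ha => by
      rintro _ ⟨s, hs, rfl⟩
      refine hle _ (mul_mem hb ha) ⟨s, hs, ?_⟩
      rw [Units.val_mul, Module.End.mul_apply]
    refine (hirr W hG hR).resolve_left fun h => hS0 ?_
    have h1 := hle 1 (one_mem R)
    rw [h, Units.val_one, Module.End.one_eq_id, Submodule.map_id] at h1
    exact le_bot_iff.mp h1
  intro U hU
  obtain ⟨U', ⟨hU', hdisj⟩, hmax⟩ :=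
    Set.Finite.exists_maximal (Set.toFinite {V : Submodule (ZMod p) M | IsInv G V ∧ Disjoint U V})
      ⟨⊥, fun g _ m hm => by rw [Submodule.mem_bot] at hm ⊢; rw [hm, map_zero], disjoint_bot_right⟩
  refine ⟨U', hU', hdisj, codisjoint_iff.mpr ?_⟩
  rw [eq_top_iff, ← hsup]
  refine iSup₂_le fun a ha => ?_
  have hUU' : IsInv G (U ⊔ U') := by
    intro g hg m hm
    obtain ⟨u, hu, u', hu', rfl⟩ := Submodule.mem_sup.mp hm
    rw [map_add]
    exact add_mem (Submodule.mem_sup_left (hU g hg u hu)) (Submodule.mem_sup_right (hU' g hg u' hu'))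
  rcases hTmin a ha (S.map (a : 𝔼) ⊓ (U ⊔ U'))
      (fun g hg m hm => ⟨hTinv a ha g hg m hm.1, hUU' g hg m hm.2⟩) inf_le_left with h | h
  · refine le_sup_of_le_right ?_
    have hd : Disjoint U (U' ⊔ S.map (a : 𝔼)) :=
      Disjoint.disjoint_sup_right_of_disjoint_sup_left hdisj (disjoint_iff.mpr ((inf_comm _ _).trans h))
    have hi : IsInv G (U' ⊔ S.map (a : 𝔼)) := by
      intro g hg m hm
      obtain ⟨u, hu, t, ht, rfl⟩ := Submodule.mem_sup.mp hm
      rw [map_add]
      exact add_mem (Submodule.mem_sup_left (hU' g hg u hu))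
        (Submodule.mem_sup_right (hTinv a ha g hg t ht))
    exact le_sup_right.trans (hmax ⟨hi, hd⟩ le_sup_left)
  · exact h.trans inf_le_right

end

variable {r : ℕ} [Fact r.Prime]

/-- The irreducible, generated case. -/
theorem irreducible_case (hp : 5 ≤ p) [Nontrivial M] (hR : IsPGroup r R)
    (hcop : (Nat.card G).Coprime r) (hn : ∀ a ∈ R, conjBy G a = G)
    (hirr : ∀ U : Submodule (ZMod p) M, IsInv G U → IsInv R U → U = ⊥ ∨ U = ⊤)
    (IH : ∀ L ≤ G, L ≠ G → (∀ a ∈ R, conjBy L a = L) → ∀ x : 𝔾, InAllSyl p L R x →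
      ((x : 𝔼) - 1) * ((x : 𝔼) - 1) = 0 → x ∈ opCore p L)
    {x : 𝔾} (hx : InAllSyl p G R x) (hxq : ((x : 𝔼) - 1) * ((x : 𝔼) - 1) = 0)
    (hG : G = Subgroup.closure {y | ∃ g ∈ G, ∃ a ∈ R, y = g * a * x * (g * a)⁻¹}) : x = 1 := by
  haveI : Finite 𝔾 := finite_gl
  by_contra hx1
  have h2 := two_ne hp
  have h3 := card_ne_three hp
  have hss := isSemisimpleFor_of_irreducible hn hirr
  have hpure := noUnipNormal_of_opCore (opCore_eq_bot hn hirr)
  set X := {y | ∃ g ∈ G, ∃ a ∈ R, y = g * a * x * (g * a)⁻¹} with hX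
  have hsub : ∀ y ∈ X, y ∈ quadraticElements G := by
    intro y hy
    have hyG : y ∈ G := hG.ge (Subgroup.subset_closure hy)
    obtain ⟨g, hg, a, ha, rfl⟩ := hy
    set q := ((g * a * x * (g * a)⁻¹ : 𝔾) : 𝔼) - 1 with hq
    have hqe : q = conjEnd (g * a) ((x : 𝔼) - 1) := by
      simp only [hq, conjEnd, Units.val_mul, mul_sub, sub_mul, mul_one]
      congr 1
      rw [← Units.val_mul g a, Units.mul_inv]
    have hqq : q * q = 0 := by rw [hqe, conjEnd_mul, hxq]; simp [conjEnd]
    refine ⟨hyG, ⟨hqq, fun h0 => hx1 ?_⟩, ?_⟩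
    · have he := Units.ext (sub_eq_zero.mp h0) (v := (1 : 𝔾))
      rwa [conj_eq_one_iff] at he
    · rintro τ ⟨c, hc⟩
      obtain ⟨u, hu, he⟩ := inG_smul (G := G) hqq
        (by rw [hq, add_sub_cancel]; exact InG.of_unit hyG) c
      have : u = τ := Units.ext (he.trans hc.symm)
      exact this ▸ hu
  have hgen : Subgroup.closure (quadraticElements G) = G :=
    le_antisymm ((Subgroup.closure_le _).mpr fun y hy => hy.1)
      (hG.le.trans (Subgroup.closure_mono hsub))
  have hxX : x ∈ X := ⟨1, one_mem _, 1, one_mem _, by simp⟩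
  have hxG : x ∈ G := hG.ge (Subgroup.subset_closure hxX)
  have hxquad : IsQuad G ((x : 𝔼) - 1) := isQuad_mk (fun h => hx1 (Units.ext (sub_eq_zero.mp h)))
    hxq (by rw [add_sub_cancel]; exact InG.of_unit hxG)
  -- x does not centralise the core
  obtain ⟨B, hB, hxB⟩ : ∃ B ∈ quadraticRootSubgroups G,
      x ∉ Subgroup.centralizer (compGroup G B : Set 𝔾) := by
    by_contra hcon
    push Not at hcon
    have hxc : x ∈ Subgroup.centralizer (coreGroup G : Set 𝔾) := by
      have hle : coreGroup G ≤ Subgroup.centralizer {x} := iSup₂_le fun A hA v hv =>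
        Subgroup.mem_centralizer_singleton_iff.mpr
          (Subgroup.mem_centralizer_iff.mp (hcon A hA) v (le_compGroup (self_mem_compSet hA) hv))
      exact Subgroup.mem_centralizer_iff.mpr fun v hv =>
        Subgroup.mem_centralizer_singleton_iff.mp (hle hv)
    have hGc : G ≤ Subgroup.centralizer (coreGroup G : Set 𝔾) := by
      refine hG.le.trans ((Subgroup.closure_le _).mpr ?_)
      rintro _ ⟨g, hg, a, ha, rfl⟩
      have hu : conjBy G (g * a) = G := by
        rw [← conjBy_conjBy, hn a ha, conjBy_mem_self hg]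
      refine Subgroup.mem_centralizer_iff.mpr fun v hv => ?_
      have hv' : (g * a)⁻¹ * v * (g * a) ∈ coreGroup G :=
        mem_conjBy.mp ((conjBy_coreGroup hu).symm ▸ hv)
      have hcomm := Subgroup.mem_centralizer_iff.mp hxc _ hv'
      calc v * (g * a * x * (g * a)⁻¹)
          = g * a * ((g * a)⁻¹ * v * (g * a) * x) * (g * a)⁻¹ := by group
        _ = g * a * (x * ((g * a)⁻¹ * v * (g * a))) * (g * a)⁻¹ := by rw [hcomm]
        _ = g * a * x * (g * a)⁻¹ * v := by group
    obtain ⟨a, ha⟩ := exists_isMin hxquad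
    obtain ⟨C, hC, hAC⟩ := exists_rankOne_partner h2 h3 hpure ha
    refine RankOne.commutator_ne_bot hAC (Subgroup.commutator_eq_bot_iff_le_centralizer.mpr ?_)
    exact (rootGroup_le.trans hGc).trans
      (Subgroup.centralizer_le (SetLike.coe_subset_coe.mpr (le_coreGroup hC)))
  -- the component part of x
  obtain ⟨k, hk, c, hc, hkc, hkr, hkk⟩ := exists_decomp hp hpure (A₀ := B) hxquad
  have hxe : k * c = x := hkc.trans (Units.ext (by rw [coe_oneAddUnit, add_sub_cancel]))
  have hkq : ((k : 𝔼) - 1) * ((k : 𝔼) - 1) = 0 :=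
    LinearMap.range_le_ker_iff.mp ((hkr.trans hxquad.range_le_ker).trans hkk)
  have hk1 : k ≠ 1 := fun h => hxB (by rw [← hxe, h, one_mul]; exact hc.2)
  have hkp : k ^ p = 1 := by
    have : k = oneAddUnit _ hkq := Units.ext (by rw [coe_oneAddUnit, add_sub_cancel])
    rw [this, oneAdd_pow_p]
  set K := compGroup G B with hKdef
  have hKn : ∀ g ∈ G, conjBy K g = K := fun g hg => conjBy_compGroup h2 h3 hpure hgen hg
  have hkS : InAllSyl p G R k := by
    intro S hS hSR
    have hxS := hx S hS hSR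
    have hSK := isSyl_inf_normal hS (compGroup_le : K ≤ G) hKn
    have hxn : conjBy (S ⊓ K) x = S ⊓ K := conjBy_eq_self_of_forall fun z hz =>
      ⟨S.mul_mem (S.mul_mem hxS hz.1) (S.inv_mem hxS), hKn x hxG ▸ conjBy_mem hz.2 x⟩
    have hcn : conjBy (S ⊓ K) c = S ⊓ K := fix_of_commute fun z hz =>
      (Subgroup.mem_centralizer_iff.mp hc.2 z hz.2).symm
    have hkn : conjBy (S ⊓ K) k = S ⊓ K := by
      rw [← hxe, ← conjBy_conjBy, hcn] at hxn
      exact hxn
    have hP : IsPGroup p (Subgroup.zpowers k) := fun g => ⟨1, by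
      obtain ⟨z, hz⟩ := Subgroup.mem_zpowers_iff.mp g.2
      refine Subtype.ext ?_
      rw [pow_one, SubmonoidClass.coe_pow, ← hz, ← zpow_natCast, ← zpow_mul, mul_comm, zpow_mul,
        zpow_natCast, hkp, one_zpow]
      rfl⟩
    have hsup : IsPGroup p (S ⊓ K ⊔ Subgroup.zpowers k : Subgroup 𝔾) :=
      hSK.isPGroup.to_sup_of_normal_left' hP
        (Subgroup.zpowers_le.mpr (conjBy_eq_self_iff.mp hkn))
    have he := hSK.eq_of_le hsup (sup_le inf_le_right (Subgroup.zpowers_le.mpr hk)) le_sup_left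
    exact (he.ge (Subgroup.mem_sup_right (Subgroup.mem_zpowers k))).1
  exact hk1 (component_case hp hpure hgen hR hcop hn hss IH hkS hkq hB hk)

end Cfsg.Agent.FlavellQuad
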