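import Cfsg.Agent.FlavellQuad.Irred

/-!
# A quadratic element in all invariant Sylow subgroups lies in the p-core
-/

set_option autoImplicit false

namespace Cfsg.Agent.FlavellQuad

open Cfsg
open Cfsg.Agent.RootSub Cfsg.Agent.RootSub.Quad

universe u

section Transfer

variable {X : Type*} [Group X] [Finite X] {p : ℕ} [Fact p.Prime]

omit [Fact p.Prime] [Finite X] in
theorem conjBy_map {Y : Type*} [Group Y] (f : X →* Y) (K : Subgroup X) (g : X) :
    conjBy (K.map f) (f g) = (conjBy K g).map f := by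
  ext y
  constructor
  · rintro ⟨_, ⟨z, hz, rfl⟩, rfl⟩
    exact ⟨g * z * g⁻¹, conjBy_mem hz g, by simp⟩
  · rintro ⟨_, ⟨z, hz, rfl⟩, rfl⟩
    exact ⟨f z, ⟨z, hz, rfl⟩, by simp⟩

/-- Passing to a subgroup containing everything. -/
theorem InAllSyl.subgroupOf {G R H : Subgroup X} (hGH : G ≤ H) (hRH : R ≤ H) {x : X}
    (hx : InAllSyl p G R x) (hxH : x ∈ H) :
    InAllSyl p (G.subgroupOf H) (R.subgroupOf H) ⟨x, hxH⟩ := by
  intro T hT hTR
  have h1 : IsSyl p G (T.map H.subtype) := by
    refine ⟨?_, ?_⟩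
    · rintro _ ⟨t, ht, rfl⟩
      exact Subgroup.mem_subgroupOf.mp (hT.1 ht)
    · rw [Subgroup.card_map_of_injective H.subtype_injective, hT.2,
        Nat.card_congr (Subgroup.subgroupOfEquivOfLe hGH).toEquiv]
  have h2 := hx _ h1 fun a ha => by
    rw [show conjBy (T.map H.subtype) a = conjBy (T.map H.subtype) (H.subtype ⟨a, hRH ha⟩) from rfl,
      conjBy_map, hTR _ (Subgroup.mem_subgroupOf.mpr ha)]
  obtain ⟨t, ht, he⟩ := h2
  exact (show t = ⟨x, hxH⟩ from Subtype.ext he) ▸ ht

end Transfer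

variable {p : ℕ} [Fact p.Prime]

/-- A quadratic element lying in every invariant Sylow p-subgroup lies in the p-core. -/
theorem quad_mem_opCore_aux (hp : 5 ≤ p) {r : ℕ} [Fact r.Prime] (n : ℕ) :
    ∀ (M : Type u) [AddCommGroup M] [Module (ZMod p) M] [FiniteDimensional (ZMod p) M]
      (G R : Subgroup (LinearMap.GeneralLinearGroup (ZMod p) M)),
      IsPGroup r R → (Nat.card G).Coprime r → (∀ a ∈ R, conjBy G a = G) →
      ∀ x : LinearMap.GeneralLinearGroup (ZMod p) M, InAllSyl p G R x →
      ((x : Module.End (ZMod p) M) - 1) * ((x : Module.End (ZMod p) M) - 1) = 0 →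
      Nat.card G + Module.finrank (ZMod p) M ≤ n → x ∈ opCore p G := by
  induction n using Nat.strong_induction_on with
  | _ n ih =>
  intro M _ _ _ G R hR hcop hn x hx hxq hle
  classical
  haveI : Finite (LinearMap.GeneralLinearGroup (ZMod p) M) := finite_gl
  rcases eq_or_ne x 1 with rfl | hx1
  · exact one_mem _
  have hnt : Nontrivial M := by
    by_contra h
    rw [not_nontrivial_iff_subsingleton] at h
    exact hx1 (Units.ext (LinearMap.ext fun m => Subsingleton.elim _ _))
  have hxG : x ∈ G := hx.mem hR hcop hn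
  have IH : ∀ L ≤ G, L ≠ G → (∀ a ∈ R, conjBy L a = L) →
      ∀ y : LinearMap.GeneralLinearGroup (ZMod p) M, InAllSyl p L R y →
      ((y : Module.End (ZMod p) M) - 1) * ((y : Module.End (ZMod p) M) - 1) = 0 →
      y ∈ opCore p L := by
    intro L hL hne hLR y hy hyq
    have hlt : Nat.card L < Nat.card G := lt_of_le_of_ne (Subgroup.card_le_of_le hL)
      fun h => hne (Subgroup.eq_of_le_of_card_ge hL h.ge)
    exact ih (Nat.card L + Module.finrank (ZMod p) M) (by omega) M L R hR
      (hcop.coprime_dvd_left (Subgroup.card_dvd_of_le hL)) hLR y hy hyq le_rfl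
  -- reduce to the generated case
  set S : Set (LinearMap.GeneralLinearGroup (ZMod p) M) :=
    {y | ∃ g ∈ G, ∃ a ∈ R, y = g * a * x * (g * a)⁻¹} with hS
  have hSG : ∀ y ∈ S, y ∈ G := by
    rintro _ ⟨g, hg, a, ha, rfl⟩
    have hu : conjBy G (g * a) = G := by rw [← conjBy_conjBy, hn a ha, conjBy_mem_self hg]
    exact hu ▸ conjBy_mem hxG (g * a)
  have hxS : x ∈ S := ⟨1, one_mem _, 1, one_mem _, by simp⟩
  by_cases hG : G = Subgroup.closure S
  swap
  · have hle0 : Subgroup.closure S ≤ G := (Subgroup.closure_le _).mpr hSG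
    have hnG : ∀ g ∈ G, conjBy (Subgroup.closure S) g = Subgroup.closure S := fun g hg => by
      refine conjBy_eq_self_of_forall fun z hz => ?_
      induction hz using Subgroup.closure_induction with
      | mem z hz =>
        obtain ⟨h, hh, a, ha, rfl⟩ := hz
        exact Subgroup.subset_closure ⟨g * h, mul_mem hg hh, a, ha, by group⟩
      | one => simp [one_mem]
      | mul y z _ _ hy hz => simpa [mul_assoc] using mul_mem hy hz
      | inv y _ hy => simpa [mul_assoc] using inv_mem hy
    have hnR : ∀ b ∈ R, conjBy (Subgroup.closure S) b = Subgroup.closure S := fun b hb => by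
      refine conjBy_eq_self_of_forall fun z hz => ?_
      induction hz using Subgroup.closure_induction with
      | mem z hz =>
        obtain ⟨h, hh, a, ha, rfl⟩ := hz
        exact Subgroup.subset_closure
          ⟨b * h * b⁻¹, hn b hb ▸ conjBy_mem hh b, b * a, mul_mem hb ha, by group⟩
      | one => simp [one_mem]
      | mul y z _ _ hy hz => simpa [mul_assoc] using mul_mem hy hz
      | inv y _ hy => simpa [mul_assoc] using inv_mem hy
    have hmem := IH _ hle0 (Ne.symm hG) hnR x
      (hx.restrict hR hcop hn hle0 (Subgroup.subset_closure hxS)) hxq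
    exact le_opCore ((opCore_le _).trans hle0) (opCore_isPGroup _)
      (fun g hg => conjBy_opCore (hnG g hg)) hmem
  by_cases hirr : ∀ U : Submodule (ZMod p) M, IsInv G U → IsInv R U → U = ⊥ ∨ U = ⊤
  · exact absurd (irreducible_case hp hR hcop hn hirr IH hx hxq hG) hx1
  -- the reducible case
  push Not at hirr
  obtain ⟨U, hUG, hUR, hU0, hU1⟩ := hirr
  let H : Subgroup (LinearMap.GeneralLinearGroup (ZMod p) M) :=
    { carrier := {g | ∀ m, m ∈ U ↔ (g : Module.End (ZMod p) M) m ∈ U}
      one_mem' := fun m => Iff.rfl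
      mul_mem' := fun {g h} hg hh m => by
        rw [Units.val_mul, Module.End.mul_apply]; exact (hh m).trans (hg _)
      inv_mem' := fun {g} hg m => by
        have := hg ((g⁻¹ : LinearMap.GeneralLinearGroup (ZMod p) M).val m)
        rw [← Module.End.mul_apply, Units.mul_inv, Module.End.one_apply] at this
        exact this.symm }
  have hH : ∀ K : Subgroup (LinearMap.GeneralLinearGroup (ZMod p) M), IsInv K U → K ≤ H :=
    fun K hK g hg m => ⟨hK g hg m, fun h => by
      have := hK g⁻¹ (inv_mem hg) _ h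
      rwa [← Module.End.mul_apply, Units.inv_mul, Module.End.one_apply] at this⟩
  have hGH := hH G hUG
  have hRH := hH R hUR
  let e1 : H →* Module.End (ZMod p) U :=
    { toFun := fun g => LinearMap.restrict (g.1 : Module.End (ZMod p) M) fun m hm => (g.2 m).mp hm
      map_one' := rfl
      map_mul' := fun g h => rfl }
  let e2 : H →* Module.End (ZMod p) (M ⧸ U) :=
    { toFun := fun g => U.mapQ U (g.1 : Module.End (ZMod p) M) fun m hm => (g.2 m).mp hm
      map_one' := by ext m; rfl
      map_mul' := fun g h => by ext m; rfl }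
  set f1 := e1.toHomUnits
  set f2 := e2.toHomUnits
  set G' := G.subgroupOf H with hG'
  set R' := R.subgroupOf H with hR'
  set x' : H := ⟨x, hGH hxG⟩
  have hx' : InAllSyl p G' R' x' := hx.subgroupOf hGH hRH (hGH hxG)
  have hR'r : IsPGroup r R' := IsPGroup.of_equiv hR (Subgroup.subgroupOfEquivOfLe hRH).symm
  have hcard : Nat.card G' = Nat.card G :=
    Nat.card_congr (Subgroup.subgroupOfEquivOfLe hGH).toEquiv
  have hcop' : (Nat.card G').Coprime r := hcard.symm ▸ hcop
  have hn' : ∀ a ∈ R', conjBy G' a = G' := fun a ha => conjBy_eq_self_of_forall fun g hg => by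
    rw [hG', Subgroup.mem_subgroupOf] at hg ⊢
    exact hn _ (Subgroup.mem_subgroupOf.mp ha) ▸ conjBy_mem hg (a : LinearMap.GeneralLinearGroup (ZMod p) M)
  have step : ∀ (V : Type u) [AddCommGroup V] [Module (ZMod p) V] [FiniteDimensional (ZMod p) V]
      (f : H →* LinearMap.GeneralLinearGroup (ZMod p) V),
      Module.finrank (ZMod p) V < Module.finrank (ZMod p) M →
      ((f x' : Module.End (ZMod p) V) - 1) * ((f x' : Module.End (ZMod p) V) - 1) = 0 →
      f x' ∈ opCore p (G'.map f) := by
    intro V _ _ _ f hV hq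
    haveI : Finite (LinearMap.GeneralLinearGroup (ZMod p) V) := finite_gl
    have hd : Nat.card (G'.map f) ∣ Nat.card G' := Subgroup.card_map_dvd G' f
    have hcl : Nat.card (G'.map f) ≤ Nat.card G := hcard ▸ Nat.le_of_dvd Nat.card_pos hd
    refine ih (Nat.card (G'.map f) + Module.finrank (ZMod p) V) (by omega) V _ (R'.map f)
      (hR'r.map f) (hcop'.coprime_dvd_left hd) ?_ _ (hx'.map f hR'r hcop' hn') hq le_rfl
    rintro _ ⟨a, ha, rfl⟩
    rw [conjBy_map, hn' a ha]
  have h1 : f1 x' ∈ opCore p (G'.map f1) := by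
    refine step U f1 ?_ (LinearMap.ext fun m => Subtype.ext (LinearMap.congr_fun hxq m.1))
    exact Submodule.finrank_lt hU1
  have h2 : f2 x' ∈ opCore p (G'.map f2) := by
    refine step (M ⧸ U) f2 ?_ (LinearMap.ext fun m => ?_)
    · have := Submodule.finrank_quotient_add_finrank U
      have hpos : 0 < Module.finrank (ZMod p) U := by
        haveI : Nontrivial U := Submodule.nontrivial_iff_ne_bot.mpr hU0
        exact Module.finrank_pos
      omega
    · obtain ⟨m, rfl⟩ := Submodule.Quotient.mk_surjective U m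
      exact congrArg Submodule.Quotient.mk (LinearMap.congr_fun hxq m)
  haveI : Finite (LinearMap.GeneralLinearGroup (ZMod p) U) := finite_gl
  haveI : Finite (LinearMap.GeneralLinearGroup (ZMod p) (M ⧸ U)) := finite_gl
  set N : Subgroup H := G' ⊓ (opCore p (G'.map f1)).comap f1 ⊓ (opCore p (G'.map f2)).comap f2
    with hN
  have hNn : ∀ g ∈ G', ∀ z ∈ N, g * z * g⁻¹ ∈ N := by
    intro g hg z hz
    refine ⟨⟨G'.mul_mem (G'.mul_mem hg hz.1.1) (G'.inv_mem hg), ?_⟩, ?_⟩
    · show f1 (g * z * g⁻¹) ∈ opCore p (G'.map f1)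
      rw [map_mul, map_mul, map_inv,
        ← conjBy_opCore_self (p := p) (Subgroup.mem_map_of_mem f1 hg)]
      exact conjBy_mem (show f1 z ∈ opCore p (G'.map f1) from hz.1.2) (f1 g)
    · show f2 (g * z * g⁻¹) ∈ opCore p (G'.map f2)
      rw [map_mul, map_mul, map_inv,
        ← conjBy_opCore_self (p := p) (Subgroup.mem_map_of_mem f2 hg)]
      exact conjBy_mem (show f2 z ∈ opCore p (G'.map f2) from hz.2) (f2 g)
  have hNp : IsPGroup p N := by
    rintro ⟨g, ⟨-, hg1⟩, hg2⟩
    obtain ⟨i, hi⟩ := (opCore_isPGroup (p := p) (G'.map f1)) ⟨f1 g, hg1⟩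
    obtain ⟨j, hj⟩ := (opCore_isPGroup (p := p) (G'.map f2)) ⟨f2 g, hg2⟩
    have hi' : f1 g ^ p ^ i = 1 := congrArg Subtype.val hi
    have hj' : f2 g ^ p ^ j = 1 := congrArg Subtype.val hj
    refine ⟨i + j + 1, Subtype.ext (Subtype.ext ?_)⟩
    set h := g ^ p ^ (i + j) with hh
    have e1' : f1 h = 1 := by rw [hh, map_pow, pow_add, pow_mul, hi', one_pow]
    have e2' : f2 h = 1 := by rw [hh, map_pow, pow_add, mul_comm, pow_mul, hj', one_pow]
    set z := ((h.1 : LinearMap.GeneralLinearGroup (ZMod p) M) : Module.End (ZMod p) M) - 1 with hz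
    have hzU : ∀ m ∈ U, z m = 0 := fun m hm => by
      have := LinearMap.congr_fun (congrArg Units.val e1') ⟨m, hm⟩
      have h' : (h.1 : Module.End (ZMod p) M) m = m := congrArg Subtype.val this
      rw [hz, LinearMap.sub_apply, Module.End.one_apply, h', sub_self]
    have hzM : ∀ m, z m ∈ U := fun m => by
      have := LinearMap.congr_fun (congrArg Units.val e2') (Submodule.Quotient.mk m)
      rw [hz, LinearMap.sub_apply, Module.End.one_apply]
      exact (Submodule.Quotient.eq U).mp this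
    have hzz : z * z = 0 := LinearMap.ext fun m => hzU _ (hzM m)
    have he : (h.1 : LinearMap.GeneralLinearGroup (ZMod p) M) = oneAddUnit z hzz :=
      Units.ext (by rw [coe_oneAddUnit, hz, add_sub_cancel])
    show ((g ^ p ^ (i + j + 1) : H) : LinearMap.GeneralLinearGroup (ZMod p) M) = 1
    rw [pow_succ, pow_mul, ← hh, SubmonoidClass.coe_pow, he, oneAdd_pow_p]
  refine le_opCore (U := N.map H.subtype) ?_ (hNp.map _) ?_ ⟨x', ⟨⟨hxG, h1⟩, h2⟩, rfl⟩
  · rintro _ ⟨z, hz, rfl⟩
    exact hz.1.1
  · intro g hg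
    refine conjBy_eq_self_of_forall ?_
    rintro _ ⟨z, hz, rfl⟩
    exact ⟨⟨g, hGH hg⟩ * z * ⟨g, hGH hg⟩⁻¹, hNn _ (Subgroup.mem_subgroupOf.mpr hg) z hz, rfl⟩

/-- A quadratic element lying in every invariant Sylow p-subgroup lies in the p-core. -/
theorem quad_mem_opCore (hp : 5 ≤ p) {r : ℕ} [Fact r.Prime] {M : Type u} [AddCommGroup M]
    [Module (ZMod p) M] [FiniteDimensional (ZMod p) M]
    {G R : Subgroup (LinearMap.GeneralLinearGroup (ZMod p) M)} (hR : IsPGroup r R)
    (hcop : (Nat.card G).Coprime r) (hn : ∀ a ∈ R, conjBy G a = G)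
    {x : LinearMap.GeneralLinearGroup (ZMod p) M} (hx : InAllSyl p G R x)
    (hxq : ((x : Module.End (ZMod p) M) - 1) * ((x : Module.End (ZMod p) M) - 1) = 0) :
    x ∈ opCore p G :=
  quad_mem_opCore_aux hp _ M G R hR hcop hn x hx hxq le_rfl

end Cfsg.Agent.FlavellQuad
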