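import Cfsg.Agent.FlavellQuad.Basic

/-!
# The unipotent group attached to a minimal quadratic element acts transitively on its opposites
-/

set_option autoImplicit false

namespace Cfsg.Agent.FlavellQuad

open Cfsg
open Cfsg.Agent.RootSub Cfsg.Agent.RootSub.Quad

variable {p : ℕ} [Fact p.Prime] {M : Type*} [AddCommGroup M] [Module (ZMod p) M]

local notation "𝔾" => LinearMap.GeneralLinearGroup (ZMod p) M
local notation "𝔼" => Module.End (ZMod p) M

/-- The elements of G which act trivially on the range of a, on ker a modulo the range and on the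
quotient by ker a. -/
def qCore (G : Subgroup 𝔾) (a : 𝔼) : Subgroup 𝔾 where
  carrier := {g | g ∈ G ∧ ((g : 𝔼) - 1) * a = 0 ∧ a * ((g : 𝔼) - 1) = 0 ∧
    ∀ m, a m = 0 → ((g : 𝔼) - 1) m ∈ LinearMap.range a}
  one_mem' := ⟨one_mem _, by simp, by simp, fun m _ => by simp⟩
  mul_mem' := by
    rintro g h ⟨hg, g1, g2, g3⟩ ⟨hh, h1, h2, h3⟩
    have he : ((g * h : 𝔾) : 𝔼) - 1 =
        ((g : 𝔼) - 1) * ((h : 𝔼) - 1) + ((g : 𝔼) - 1) + ((h : 𝔼) - 1) := by
      rw [Units.val_mul]; noncomm_ring
    refine ⟨mul_mem hg hh, ?_, ?_, fun m hm => ?_⟩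
    · rw [he, add_mul, add_mul, mul_assoc, h1, g1, mul_zero, add_zero, add_zero]
    · rw [he, mul_add, mul_add, ← mul_assoc, g2, h2, zero_mul, add_zero, add_zero]
    · obtain ⟨n, hn⟩ := h3 m hm
      rw [he, LinearMap.add_apply, LinearMap.add_apply, Module.End.mul_apply, ← hn,
        ← Module.End.mul_apply, g1, LinearMap.zero_apply, zero_add]
      exact add_mem (g3 m hm) ⟨n, rfl⟩
  inv_mem' := by
    rintro g ⟨hg, g1, g2, g3⟩
    set u := (g : 𝔼) - 1 with hu
    have ga : (g : 𝔼) * a = a := by rw [← sub_eq_zero, ← g1, hu, sub_mul, one_mul]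
    have ag : a * (g : 𝔼) = a := by rw [← sub_eq_zero, ← g2, hu, mul_sub, mul_one]
    refine ⟨inv_mem hg, ?_, ?_, fun m hm => ?_⟩
    · rw [sub_mul, one_mul, sub_eq_zero]
      conv_lhs => rw [← ga, ← mul_assoc, Units.inv_mul, one_mul]
    · rw [mul_sub, mul_one, sub_eq_zero]
      conv_lhs => rw [← ag, mul_assoc, Units.mul_inv, mul_one]
    · set n := ((g⁻¹ : 𝔾) : 𝔼) m with hn
      have hgn : (g : 𝔼) n = m := by
        rw [hn, ← Module.End.mul_apply, Units.mul_inv, Module.End.one_apply]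
      have han : a n = 0 := by rw [← ag, Module.End.mul_apply, hgn, hm]
      have := neg_mem (g3 n han)
      rw [hu, LinearMap.sub_apply, Module.End.one_apply, hgn, neg_sub] at this
      rw [LinearMap.sub_apply, Module.End.one_apply, ← hn]
      exact this

variable {G : Subgroup (LinearMap.GeneralLinearGroup (ZMod p) M)}

theorem mem_qCore {a : 𝔼} {g : 𝔾} : g ∈ qCore G a ↔ g ∈ G ∧ ((g : 𝔼) - 1) * a = 0 ∧
    a * ((g : 𝔼) - 1) = 0 ∧ ∀ m, a m = 0 → ((g : 𝔼) - 1) m ∈ LinearMap.range a := Iff.rfl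

theorem qCore_le (a : 𝔼) : qCore G a ≤ G := fun _ h => h.1

theorem qCore_mul_left {a : 𝔼} {g : 𝔾} (hg : g ∈ qCore G a) : (g : 𝔼) * a = a := by
  rw [← sub_eq_zero, ← hg.2.1, sub_mul, one_mul]

theorem qCore_mul_right {a : 𝔼} {g : 𝔾} (hg : g ∈ qCore G a) : a * (g : 𝔼) = a := by
  rw [← sub_eq_zero, ← hg.2.2.1, mul_sub, mul_one]

theorem qCore_congr {a b : 𝔼} (hr : LinearMap.range a = LinearMap.range b)
    (hk : LinearMap.ker a = LinearMap.ker b) : qCore G a = qCore G b := by
  ext g
  rw [mem_qCore, mem_qCore, hr]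
  refine and_congr_right fun _ => and_congr ?_ (and_congr ?_ ?_)
  · rw [Module.End.mul_eq_comp, Module.End.mul_eq_comp, ← LinearMap.range_le_ker_iff,
      ← LinearMap.range_le_ker_iff, hr]
  · rw [Module.End.mul_eq_comp, Module.End.mul_eq_comp, ← LinearMap.range_le_ker_iff,
      ← LinearMap.range_le_ker_iff, hk]
  · exact forall_congr' fun m => by rw [← LinearMap.mem_ker, hk, LinearMap.mem_ker]

theorem mem_qCore_conj {a : 𝔼} {g u : 𝔾} (hu : conjBy G u = G) (hg : g ∈ qCore G a) :
    u * g * u⁻¹ ∈ qCore G (conjEnd u a) := by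
  obtain ⟨hgG, g1, g2, g3⟩ := hg
  have he : ((u * g * u⁻¹ : 𝔾) : 𝔼) - 1 = conjEnd u ((g : 𝔼) - 1) := by
    simp only [conjEnd, Units.val_mul, mul_sub, sub_mul, mul_one, Units.mul_inv]
  refine ⟨hu ▸ conjBy_mem hgG u, ?_, ?_, fun m hm => ?_⟩
  · rw [he, conjEnd_mul, g1]; simp [conjEnd]
  · rw [he, conjEnd_mul, g2]; simp [conjEnd]
  · rw [← LinearMap.mem_ker, ker_conjEnd] at hm
    obtain ⟨n, hn, rfl⟩ := hm
    rw [he, range_conjEnd, conjEnd, Module.End.mul_apply, Module.End.mul_apply,
      ← Module.End.mul_apply _ (u : 𝔼), Units.inv_mul, Module.End.one_apply]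
    exact ⟨_, g3 n hn, rfl⟩

variable [FiniteDimensional (ZMod p) M]

theorem qCore_eq {a x : 𝔼} (ha : IsMin G a) (hx : x ∈ rootSpace G a) (hx0 : x ≠ 0) :
    qCore G x = qCore G a := qCore_congr (ha.range_eq hx hx0) (ha.ker_eq hx hx0)

omit [FiniteDimensional (ZMod p) M] in
theorem qCore_isPGroup (hp : 5 ≤ p) (a : 𝔼) : IsPGroup p (qCore G a) := by
  rintro ⟨g, hgG, g1, g2, g3⟩
  refine ⟨1, Subtype.ext (Units.ext ?_)⟩
  set u := (g : 𝔼) - 1 with hu
  have h3 : u ^ 3 = 0 := LinearMap.ext fun m => by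
    rw [pow_succ, pow_succ, pow_one, Module.End.mul_apply, Module.End.mul_apply]
    obtain ⟨n, hn⟩ := g3 (u m) (by rw [← Module.End.mul_apply, g2, LinearMap.zero_apply])
    rw [← hn, ← Module.End.mul_apply, g1]
    simp
  rw [pow_one, SubmonoidClass.coe_pow, Units.val_pow_eq_pow_val,
    show (g : 𝔼) = 1 + u by rw [hu]; abel, one_add_pow_p, pow_eq_zero_of_le (by omega) h3,
    add_zero]
  rfl

omit [FiniteDimensional (ZMod p) M] in
/-- The group centralises the root space. -/
theorem qCore_commute {a x : 𝔼} {g : 𝔾} (hg : g ∈ qCore G a) (hx : x ∈ rootSpace G a) :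
    conjEnd g x = x := by
  obtain ⟨-, g1, g2, -⟩ := hg
  have h1 : ((g : 𝔼) - 1) * x = 0 := LinearMap.range_le_ker_iff.mp
    (hx.1.trans (LinearMap.range_le_ker_iff.mpr g1))
  have h2 : x * ((g : 𝔼) - 1) = 0 := LinearMap.range_le_ker_iff.mp
    ((LinearMap.range_le_ker_iff.mpr g2).trans (le_sup_left.trans hx.2.1))
  rw [sub_mul, one_mul, sub_eq_zero] at h1
  rw [mul_sub, mul_one, sub_eq_zero] at h2
  rw [conjEnd, h1]
  conv_lhs => rw [← h2, mul_assoc, Units.mul_inv, mul_one]

omit [FiniteDimensional (ZMod p) M] in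
theorem rootGroup_le_qCore {a : 𝔼} (ha : a * a = 0) : rootGroup G a ≤ qCore G a := by
  intro g hg
  obtain ⟨h1, h2, -⟩ := (mem_rootSpace ha).mp hg
  refine ⟨rootGroup_le hg, ?_, ?_, fun m _ => h1 ⟨m, rfl⟩⟩
  · exact LinearMap.range_le_ker_iff.mp ((LinearMap.range_le_ker_iff.mpr ha).trans h2)
  · exact LinearMap.range_le_ker_iff.mp (h1.trans (LinearMap.range_le_ker_iff.mpr ha))

omit [FiniteDimensional (ZMod p) M] in
/-- Commutators of the group lie in the root group. -/
theorem qCore_commutator {a : 𝔼} (ha : a * a = 0) {g h : 𝔾} (hg : g ∈ qCore G a)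
    (hh : h ∈ qCore G a) : g * h * g⁻¹ * h⁻¹ ∈ rootGroup G a := by
  have hc : g * h * g⁻¹ * h⁻¹ ∈ qCore G a :=
    mul_mem (mul_mem (mul_mem hg hh) (inv_mem hg)) (inv_mem hh)
  have hin : g⁻¹ * h⁻¹ ∈ qCore G a := mul_mem (inv_mem hg) (inv_mem hh)
  obtain ⟨-, g1, g2, g3⟩ := hg
  obtain ⟨-, h1, h2, h3⟩ := hh
  set u := (g : 𝔼) - 1 with hu
  set v := (h : 𝔼) - 1 with hv
  have he : ((g * h * g⁻¹ * h⁻¹ : 𝔾) : 𝔼) - 1 = (u * v - v * u) * ((g⁻¹ * h⁻¹ : 𝔾) : 𝔼) := by
    have h4 : u * v - v * u = ((g * h : 𝔾) : 𝔼) - ((h * g : 𝔾) : 𝔼) := by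
      rw [Units.val_mul, Units.val_mul, hu, hv]; noncomm_ring
    rw [h4, sub_mul, ← Units.val_mul, ← Units.val_mul,
      show h * g * (g⁻¹ * h⁻¹) = 1 by group, show g * h * (g⁻¹ * h⁻¹) = g * h * g⁻¹ * h⁻¹ by group,
      Units.val_one]
  rw [mem_rootGroup]
  refine mem_rootSpace_mk ha ?_ ?_ (by rw [add_sub_cancel]; exact InG.of_unit hc.1)
  · rw [he]
    refine (LinearMap.range_comp_le_range _ _).trans ?_
    rintro _ ⟨m, rfl⟩
    rw [LinearMap.sub_apply, Module.End.mul_apply, Module.End.mul_apply]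
    exact sub_mem (g3 _ (by rw [← Module.End.mul_apply, h2, LinearMap.zero_apply]))
      (h3 _ (by rw [← Module.End.mul_apply, g2, LinearMap.zero_apply]))
  · intro m hm
    rw [LinearMap.mem_ker] at hm ⊢
    rw [he, Module.End.mul_apply]
    set n := ((g⁻¹ * h⁻¹ : 𝔾) : 𝔼) m
    have hn : a n = 0 := by
      show a (((g⁻¹ * h⁻¹ : 𝔾) : 𝔼) m) = 0
      rw [← Module.End.mul_apply, qCore_mul_right hin, hm]
    obtain ⟨w₁, hw₁⟩ := g3 n hn
    obtain ⟨w₂, hw₂⟩ := h3 n hn
    rw [LinearMap.sub_apply, Module.End.mul_apply, Module.End.mul_apply, ← hw₁, ← hw₂,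
      ← Module.End.mul_apply, ← Module.End.mul_apply, g1, h1]
    simp

/-! ### The projection of an opposite pair -/

/-- s is the projection of the pair a, b. -/
structure IsProj (a b s : 𝔼) : Prop where
  left_a : s * a = a
  right_a : a * s = a
  left_b : s * b = b
  right_b : b * s = b
  range_le : LinearMap.range s ≤ LinearMap.range a ⊔ LinearMap.range b
  ker_le : ∀ m, a m = 0 → b m = 0 → s m = 0

section Proj

omit [FiniteDimensional (ZMod p) M]

variable {a b s s' : Module.End (ZMod p) M}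

theorem IsProj.left_fix (h : IsProj a b s) {z : 𝔼}
    (hz : LinearMap.range z ≤ LinearMap.range a ⊔ LinearMap.range b) : s * z = z := by
  refine LinearMap.ext fun m => ?_
  obtain ⟨_, ⟨u, rfl⟩, _, ⟨v, rfl⟩, he⟩ := Submodule.mem_sup.mp (hz ⟨m, rfl⟩)
  rw [Module.End.mul_apply, ← he, map_add, ← Module.End.mul_apply, ← Module.End.mul_apply,
    h.left_a, h.left_b]

theorem IsProj.right_fix (h : IsProj a b s) {z : 𝔼} (hz : ∀ m, a m = 0 → b m = 0 → z m = 0) :
    z * s = z := by
  refine LinearMap.ext fun m => ?_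
  have := hz (m - s m) (by rw [map_sub, ← Module.End.mul_apply, h.right_a, sub_self])
    (by rw [map_sub, ← Module.End.mul_apply, h.right_b, sub_self])
  rw [map_sub, sub_eq_zero] at this
  rw [Module.End.mul_apply, ← this]

theorem IsProj.unique (h : IsProj a b s) (h' : IsProj a b s') : s = s' := by
  rw [← h'.left_fix h.range_le, h.right_fix h'.ker_le]

theorem IsProj.idem (h : IsProj a b s) : s * s = s := h.left_fix h.range_le

theorem IsProj.left_space (h : IsProj a b s) {z : 𝔼} (hz : z ∈ rootSpace G a) : s * z = z :=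
  h.left_fix (hz.1.trans le_sup_left)

theorem IsProj.right_space (h : IsProj a b s) {z : 𝔼} (hz : z ∈ rootSpace G a) : z * s = z :=
  h.right_fix fun _ hm _ => LinearMap.mem_ker.mp (hz.2.1 (Submodule.mem_sup_left (LinearMap.mem_ker.mpr hm)))

theorem IsProj.left_space' (h : IsProj a b s) {z : 𝔼} (hz : z ∈ rootSpace G b) : s * z = z :=
  h.left_fix (hz.1.trans le_sup_right)

theorem IsProj.right_space' (h : IsProj a b s) {z : 𝔼} (hz : z ∈ rootSpace G b) : z * s = z :=
  h.right_fix fun _ _ hm => LinearMap.mem_ker.mp (hz.2.1 (Submodule.mem_sup_left (LinearMap.mem_ker.mpr hm)))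

theorem IsProj.flip (h : IsProj a b s) : IsProj b a s :=
  ⟨h.left_b, h.right_b, h.left_a, h.right_a, h.range_le.trans (sup_comm _ _).le,
    fun m h1 h2 => h.ker_le m h2 h1⟩

end Proj

variable (hp : 5 ≤ p) {a b : Module.End (ZMod p) M} (ha : IsMin G a) (hb : IsMin G b) (hab : IsOpp a b)

include hp ha hb hab

theorem isProj_partner {y : 𝔼} (hy : y ∈ rootSpace G b) (hy0 : y ≠ 0) (h1 : a * y * a = a)
    (h2 : y * a * y = y) : IsProj a b (a * y + y * a) := by
  have hy2 := mul_eq_zero_of_mem hy hy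
  have hky := hb.ker_eq hy hy0
  have hry := hb.range_eq hy hy0
  have k1 : y * (a * y + y * a) = y := by
    rw [mul_add, ← mul_assoc, h2, ← mul_assoc, hy2, zero_mul, add_zero]
  have k2 : (a * y + y * a) * y = y := by
    rw [add_mul, mul_assoc, hy2, mul_zero, zero_add, h2]
  refine ⟨by rw [add_mul, h1, mul_assoc y a a, ha.sq, mul_zero, add_zero],
    by rw [mul_add, ← mul_assoc, ha.sq, zero_mul, zero_add, ← mul_assoc, h1], ?_, ?_, ?_, ?_⟩
  · refine LinearMap.ext fun m => ?_
    obtain ⟨n, hn⟩ := hry.ge ⟨m, rfl⟩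
    rw [Module.End.mul_apply, ← hn, ← Module.End.mul_apply, k2]
  · refine LinearMap.ext fun m => ?_
    have hm : m - (a * y + y * a) m ∈ LinearMap.ker y := by
      rw [LinearMap.mem_ker, map_sub, ← Module.End.mul_apply, k1, sub_self]
    rw [hky, LinearMap.mem_ker, map_sub, sub_eq_zero] at hm
    exact hm.symm
  · refine (LinearMap.range_add_le _ _).trans (sup_le_sup (LinearMap.range_comp_le_range _ _) ?_)
    rw [← hry]
    exact LinearMap.range_comp_le_range _ _
  · intro m hm1 hm2
    have hym : y m = 0 := LinearMap.mem_ker.mp (hky ▸ LinearMap.mem_ker.mpr hm2)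
    rw [LinearMap.add_apply, Module.End.mul_apply, Module.End.mul_apply, hym, hm1, map_zero,
      map_zero, add_zero]

theorem exists_proj : ∃ (s : 𝔼) (t : 𝔾), IsProj a b s ∧ (t : 𝔼) = 1 - s - s ∧
    t ∈ rootGroup G a ⊔ rootGroup G b := by
  obtain ⟨s, i, hA, hB, -, hr, hk, hi, hie⟩ :=
    exists_projection (two_ne hp) (card_ne_three hp) ha hb hab
  exact ⟨s, i, ⟨(hA a ha.self_mem).1, (hA a ha.self_mem).2, (hB b hb.self_mem).1,
    (hB b hb.self_mem).2, hr, hk⟩, hie, hi⟩

theorem exists_pseudo : ∃ y ∈ rootSpace G b, y ≠ 0 ∧ a * y * a = a ∧ y * a * y = y :=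
  exists_partner (two_ne hp) (card_ne_three hp) ha hb hab ha.self_mem ha.ne_zero

theorem partner_unique {x y y' : 𝔼} (hx : x ∈ rootSpace G a) (hx0 : x ≠ 0)
    (hy : y ∈ rootSpace G b) (hy' : y' ∈ rootSpace G b) (h : x * y * x = x)
    (h' : x * y' * x = x) : y = y' := by
  by_contra hne
  refine hab.of_mem (two_ne hp) (card_ne_three hp) ha hb hx hx0 (sub_mem hy hy')
    (sub_ne_zero.mpr hne) ⟨2, ?_⟩
  rw [sq, ← mul_assoc, show x * (y - y') * x = x * y * x - x * y' * x by noncomm_ring, h, h',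
    sub_self, zero_mul]

omit hb hab in
theorem weyl_mem {y : 𝔼} (hy : y ∈ rootSpace G b) (hy2 : y * y = 0) {l m : ZMod p}
    (h : (l • a) * (m • y) * (l • a) = l • a) :
    InG G (1 + l • a - m • y - (l * m) • (a * y + y * a)) ∧
      InG G (1 - l • a + m • y - (l * m) • (a * y + y * a)) := by
  have hA : (l • a) * (l • a) = 0 := by rw [smul_mul_smul_comm, ha.sq, smul_zero]
  have hB : (m • y) * (m • y) = 0 := by rw [smul_mul_smul_comm, hy2, smul_zero]
  have e : (l • a) * (m • y) + (m • y) * (l • a) = (l * m) • (a * y + y * a) := by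
    rw [smul_mul_smul_comm, smul_mul_smul_comm, mul_comm m l, smul_add]
  refine ⟨?_, ?_⟩
  · have := ((ha.inG l).mul (hy.2.2 (-m))).mul (ha.inG l)
    rw [neg_smul, ← sub_eq_add_neg, weyl_val hA h, sub_sub _ _ ((m • y) * (l • a)), e] at this
    exact this
  · have := ((ha.inG (-l)).mul (hy.2.2 m)).mul (ha.inG (-l))
    rw [neg_smul, show m • y = -(-(m • y)) from (neg_neg _).symm] at this
    have hA' : (-(l • a)) * (-(l • a)) = 0 := by rw [neg_mul_neg, hA]
    have h' : -(l • a) * -(m • y) * -(l • a) = -(l • a) := by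
      rw [neg_mul_neg, mul_neg, h]
    rw [← sub_eq_add_neg 1 (-(m • y)), weyl_val hA' h', sub_sub _ _ (-(m • y) * -(l • a)),
      neg_mul_neg, neg_mul_neg, e] at this
    convert this using 1
    abel

/-- Step two of the transitivity: opposites with the same projection. -/
theorem exists_root_conj {c s : 𝔼} (hc : IsMin G c) (hac : IsOpp a c) (hs : IsProj a b s)
    (hs' : IsProj a c s) :
    ∃ q ∈ rootGroup G a, conjBy (rootGroup G b) q = rootGroup G c := by
  obtain ⟨y, hy, hy0, y1, y2⟩ := exists_pseudo hp ha hb hab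
  obtain ⟨z, hz, hz0, z1, z2⟩ := exists_pseudo hp ha hc hac
  have es : s = a * y + y * a := hs.unique (isProj_partner hp ha hb hab hy hy0 y1 y2)
  have es' : s = a * z + z * a := hs'.unique (isProj_partner hp ha hc hac hz hz0 z1 z2)
  have hyy := mul_eq_zero_of_mem hy hy
  have hzz := mul_eq_zero_of_mem hz hz
  have sy := hs.left_space' hy
  have ys := hs.right_space' hy
  have sz := hs'.left_space' hz
  have zs := hs'.right_space' hz
  have saz : s * (z * a) = z * a := by rw [← mul_assoc, sz]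
  set ξ := a * y * z * a with hξdef
  set η := y * z * a * y with hηdef
  have yay : ∀ w : 𝔼, y * (a * (y * w)) = y * w := fun w => by
    rw [← mul_assoc a, ← mul_assoc y, ← mul_assoc y, y2]
  -- z a
  have hza : z * a = ξ + y * a := by
    conv_lhs => rw [← saz, es, add_mul]
    rw [hξdef, show y * a * (z * a) = y * (a * z * a) by simp only [mul_assoc], z1]
    simp only [mul_assoc]
  have haz : a * z = a * y + y * a - z * a := by rw [← es, es', add_sub_cancel_right]
  -- z y
  have hyazy : y * a * (z * y) = -η := by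
    rw [show y * a * (z * y) = y * (a * z) * y by simp only [mul_assoc], haz, hηdef]
    calc y * (a * y + y * a - z * a) * y
        = y * a * y * y + y * y * (a * y) - y * z * a * y := by noncomm_ring
      _ = _ := by rw [y2, hyy, zero_mul, zero_add, zero_sub]
  have hzy0 : z * y = a * y * (z * y) - η := by
    conv_lhs => rw [← sz, mul_assoc, es, add_mul, hyazy]
    rw [← sub_eq_add_neg]
  have hazya : a * y * (z * y) * a = -(ξ * y * ξ) := by
    calc a * y * (z * y) * a = a * y * z * a * (z * y) * a := by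
          conv_lhs => rw [← z2]
          simp only [mul_assoc]
      _ = a * y * z * a * (a * y * (z * y) - η) * a := by rw [← hzy0]
      _ = -(ξ * y * ξ) := by
          rw [hξdef, hηdef]
          calc a * y * z * a * (a * y * (z * y) - y * z * a * y) * a
              = a * y * z * (a * a) * y * (z * y) * a - a * y * z * a * y * z * (a * y * a) := by
                noncomm_ring
            _ = _ := by
              rw [ha.sq, y1, mul_zero, zero_mul, zero_mul, zero_mul, zero_sub]
              simp only [mul_assoc, yay]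
  have hzy1 : a * y * (z * y) = -(ξ * η) := by
    calc a * y * (z * y) = a * y * (z * (y * s)) := by rw [ys]
      _ = a * y * (z * y) * a * y + a * y * z * (y * y) * a := by rw [es]; noncomm_ring
      _ = -(ξ * y * ξ) * y := by rw [hazya, hyy, mul_zero, zero_mul, add_zero]
      _ = _ := by rw [hξdef, hηdef]; simp only [mul_assoc, neg_mul, yay]
  have hzy : z * y = -(η + ξ * η) := by rw [hzy0, hzy1]; abel
  -- z as a conjugate of y
  have hξy : ξ * y = a * y * z * a * y := by rw [hξdef]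
  have hyξ : y * ξ = y * z * a := by
    rw [hξdef, show y * (a * y * z * a) = y * a * y * z * a by simp only [mul_assoc], y2]
  have hzc : z = y + ξ * y - y * ξ - ξ * y * ξ := by
    have t1 : y * a * (z * a) * y = y := by
      rw [show y * a * (z * a) * y = y * (a * z * a) * y by simp only [mul_assoc], z1, y2]
    have t2 : y * a * (z * y) * a = -(y * ξ) := by
      rw [hyazy, hyξ, hηdef, neg_mul, show y * z * a * y * a = y * z * (a * y * a) by
        simp only [mul_assoc], y1]
    calc z = s * z * s := by rw [sz, zs]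
      _ = a * y * z * a * y + a * y * (z * y) * a + y * a * (z * a) * y + y * a * (z * y) * a := by
          rw [es]; noncomm_ring
      _ = _ := by rw [hazya, t1, t2, ← hξy]; abel
  -- the products of Weyl elements
  have hone : ∀ l m : ZMod p, l * m = 1 → InG G (1 + ξ + m ^ 2 • η + m ^ 2 • (ξ * η)) := by
    intro l m hlm
    have hl : ∀ w : 𝔼, a * w * a = a → (l • a) * (m • w) * (l • a) = l • a := fun w hw => by
      simp only [smul_mul_assoc, mul_smul_comm, smul_smul, hw]
      rw [show l * (m * l) = l by rw [mul_comm m l, hlm, mul_one]]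
    have h1 := (weyl_mem hp ha (m := m) hz hzz (hl z z1)).1
    have h2 := (weyl_mem hp ha (m := m) hy hyy (hl y y1)).2
    rw [hlm, one_smul] at h1 h2
    rw [← es'] at h1
    rw [← es] at h2
    convert h1.mul h2 using 1
    set a' := l • a
    set y' := m • y
    set z' := m • z
    have f1 : a' * s = a' := by rw [smul_mul_assoc, hs.right_a]
    have f2 : s * a' = a' := by rw [mul_smul_comm, hs.left_a]
    have f3 : s * y' = y' := by rw [mul_smul_comm, sy]
    have f4 : z' * s = z' := by rw [smul_mul_assoc, zs]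
    have f5 : a' * y' = a * y := by rw [smul_mul_smul_comm, hlm, one_smul]
    have f6 : z' * a' = z * a := by rw [smul_mul_smul_comm, mul_comm, hlm, one_smul]
    have f7 : z' * y' = m ^ 2 • (z * y) := by rw [smul_mul_smul_comm, sq]
    have f8 : a' * a' = 0 := by rw [smul_mul_smul_comm, ha.sq, smul_zero]
    calc 1 + ξ + m ^ 2 • η + m ^ 2 • (ξ * η)
        = 1 - s + a * y + z * a - m ^ 2 • (z * y) := by
          rw [hza, hzy, es, smul_neg, smul_add]; abel
      _ = (1 + a' - z' - s) * (1 - a' + y' - s) := by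
          rw [show (1 + a' - z' - s) * (1 - a' + y' - s) = 1 + (a' - a') + (y' - s * y') - (z' - z' * s)
            + (s * a' - a' * s) + (s * s - s) - s - a' * a' + a' * y' + z' * a' - z' * y' by noncomm_ring,
            f1, f2, f3, f4, f5, f6, f7, f8, hs.idem]
          abel
  have hη2 : η * η = 0 := by
    rw [hηdef, show y * z * a * y * (y * z * a * y) = y * z * a * (y * y) * (z * a * y) by
      simp only [mul_assoc], hyy, mul_zero, zero_mul]
  have h21 : (2 : ZMod p) * 2⁻¹ = 1 := mul_inv_cancel₀ (two_ne hp)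
  obtain ⟨u₁, hu₁, e₁⟩ := hone 1 1 (one_mul 1)
  obtain ⟨u₂, hu₂, e₂⟩ := hone 2 2⁻¹ h21
  rw [one_pow, one_smul, one_smul] at e₁
  set d : ZMod p := (2⁻¹) ^ 2 - 1
  have hd : d ≠ 0 := by
    intro h
    have h4 : ((3 : ℕ) : ZMod p) = 0 := by
      have : (2 : ZMod p) ^ 2 * ((2⁻¹) ^ 2 - 1) = 0 := by rw [show (2⁻¹ : ZMod p) ^ 2 - 1 = 0 from h, mul_zero]
      rw [mul_sub, ← mul_pow, h21] at this
      push_cast
      linear_combination -this
    have := Nat.le_of_dvd (by norm_num) ((ZMod.natCast_eq_zero_iff 3 p).mp h4)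
    omega
  have hmul : InG G (1 + d • η) := by
    refine ⟨u₁⁻¹ * u₂, mul_mem (inv_mem hu₁) hu₂, ?_⟩
    rw [Units.val_mul]
    have : (u₂ : 𝔼) = (u₁ : 𝔼) * (1 + d • η) := by
      rw [e₁, e₂]
      simp only [d, sub_smul, one_smul, mul_add, add_mul, mul_sub, one_mul, mul_smul_comm, mul_one,
        hη2, mul_assoc, mul_zero, smul_zero, smul_add, add_zero]
      abel
    rw [this, ← mul_assoc, Units.inv_mul, one_mul]
  have hη : InG G (1 + η) := by
    have h := inG_smul (a := d • η) (by rw [smul_mul_smul_comm, hη2, smul_zero]) hmul d⁻¹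
    rwa [smul_smul, inv_mul_cancel₀ hd, one_smul] at h
  have hξ : InG G (1 + ξ) := by
    have hneg := inG_smul hη2 hη (-1)
    rw [neg_one_smul] at hneg
    have := (InG.of_unit hu₁).mul hneg
    rw [e₁] at this
    convert this using 1
    simp only [mul_add, add_mul, mul_one, one_mul, mul_neg, mul_assoc, hη2, mul_zero, neg_zero,
      add_zero]
    abel
  have hξm : ξ ∈ rootSpace G a := by
    refine mem_rootSpace_mk ha.sq ?_ ?_ hξ
    · rw [hξdef, mul_assoc, mul_assoc]; exact LinearMap.range_comp_le_range _ _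
    · exact LinearMap.ker_le_ker_comp _ _
  have hξ2 := mul_eq_zero_of_mem hξm hξm
  refine ⟨oneAddUnit ξ hξ2, oneAddUnit_mem hξm hξ2, ?_⟩
  rw [conjBy_rootGroup (rootGroup_le (oneAddUnit_mem hξm hξ2))]
  have hyz : conjEnd (oneAddUnit ξ hξ2) y = z := by
    rw [conjEnd, coe_oneAddUnit, coe_oneAddUnit_inv, hzc]; noncomm_ring
  have := conjEnd_mem (u := oneAddUnit ξ hξ2) (rootGroup_le (oneAddUnit_mem hξm hξ2)) hy
  rw [hyz] at this
  refine rootGroup_congr ?_
  rw [← (hb.conj (rootGroup_le (oneAddUnit_mem hξm hξ2))).rootSpace_eq this hz0,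
    hc.rootSpace_eq hz hz0]

theorem exists_qCore_conj {c : 𝔼} (hc : IsMin G c) (hac : IsOpp a c) :
    ∃ q ∈ qCore G a, q ∈ rootGroup G a ⊔ rootGroup G b ⊔ rootGroup G c ∧
      conjBy (rootGroup G b) q = rootGroup G c := by
  obtain ⟨s, t, hs, ht, htm⟩ := exists_proj hp ha hb hab
  obtain ⟨s', t', hs', ht', htm'⟩ := exists_proj hp ha hc hac
  set g := t * t' with hgdef
  have htG : t ∈ G := (sup_le rootGroup_le rootGroup_le : _ ≤ G) htm
  have htG' : t' ∈ G := (sup_le rootGroup_le rootGroup_le : _ ≤ G) htm'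
  have hinv : ∀ {s : 𝔼} {t : 𝔾} {c : 𝔼}, IsProj a c s → (t : 𝔼) = 1 - s - s → t * t = 1 := by
    intro s t c hs ht
    refine Units.ext ?_
    rw [Units.val_mul, ht, Units.val_one]
    calc (1 - s - s) * (1 - s - s) = 1 + (s * s - s) + (s * s - s) + (s * s - s) + (s * s - s) := by
          noncomm_ring
      _ = 1 := by rw [hs.idem, sub_self]; simp
  have htt := hinv hs ht
  have htt' := hinv hs' ht'
  obtain ⟨y, hy, hy0, y1, y2⟩ := exists_pseudo hp ha hb hab
  obtain ⟨y', hy', hy0', y1', y2'⟩ := exists_pseudo hp ha hc hac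
  have es := hs.unique (isProj_partner hp ha hb hab hy hy0 y1 y2)
  have es' := hs'.unique (isProj_partner hp ha hc hac hy' hy0' y1' y2')
  have hgv : (g : 𝔼) - 1 = -(s + s) - (s' + s') + (s * s' + s * s' + (s * s' + s * s')) := by
    rw [hgdef, Units.val_mul, ht, ht']; noncomm_ring
  have hgQ : g ∈ qCore G a := by
    refine ⟨mul_mem htG htG', ?_, ?_, fun m hm => ?_⟩
    · rw [hgv, show (-(s + s) - (s' + s') + (s * s' + s * s' + (s * s' + s * s'))) * a =
        -(s * a + s * a) - (s' * a + s' * a) + (s * (s' * a) + s * (s' * a) + (s * (s' * a) + s * (s' * a)))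
        by noncomm_ring, hs'.left_a, hs.left_a]
      abel
    · rw [hgv, show a * (-(s + s) - (s' + s') + (s * s' + s * s' + (s * s' + s * s'))) =
        -(a * s + a * s) - (a * s' + a * s') + ((a * s) * s' + (a * s) * s' + ((a * s) * s' + (a * s) * s'))
        by noncomm_ring, hs.right_a, hs'.right_a]
      abel
    · have k1 : s m = a (y m) := by
        rw [es, LinearMap.add_apply, Module.End.mul_apply, Module.End.mul_apply, hm, map_zero,
          add_zero]
      have k2 : s' m = a (y' m) := by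
        rw [es', LinearMap.add_apply, Module.End.mul_apply, Module.End.mul_apply, hm, map_zero,
          add_zero]
      have k3 : (s * s') m = a (y' m) := by
        rw [Module.End.mul_apply, k2, ← Module.End.mul_apply, hs.left_a]
      rw [hgv]
      simp only [LinearMap.add_apply, LinearMap.sub_apply, LinearMap.neg_apply, k1, k2, k3,
        ← map_add, ← map_neg, ← map_sub]
      exact ⟨_, rfl⟩
  have hgp : g ^ p = 1 := by
    obtain ⟨-, g1, g2, g3⟩ := hgQ
    refine Units.ext ?_
    set u := (g : 𝔼) - 1 with hu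
    have h3 : u ^ 3 = 0 := LinearMap.ext fun m => by
      rw [pow_succ, pow_succ, pow_one, Module.End.mul_apply, Module.End.mul_apply]
      obtain ⟨n, hn⟩ := g3 (u m) (by rw [← Module.End.mul_apply, g2, LinearMap.zero_apply])
      rw [← hn, ← Module.End.mul_apply, g1]
      simp
    simp
    rw [show (g : 𝔼) = 1 + u by rw [hu]; abel, one_add_pow_p, pow_eq_zero_of_le (by omega) h3,
      add_zero]
  set n := (p + 1) / 2
  have hn2 : n + n = p + 1 := by
    rcases (Fact.out : p.Prime).eq_two_or_odd with h | h <;> omega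
  set h := g⁻¹ ^ n with hhdef
  have hsemi : t * g = g⁻¹ * t := by
    rw [hgdef, ← mul_assoc, htt, one_mul, mul_inv_rev, inv_mul_cancel_right]
    exact (inv_eq_of_mul_eq_one_right htt').symm
  have hht : h * t * h⁻¹ = t' := by
    have hp' : t * g ^ n = g⁻¹ ^ n * t := (SemiconjBy.pow_right (a := t) hsemi n)
    rw [hhdef, inv_pow g n, inv_inv, mul_assoc, hp', ← mul_assoc, ← inv_pow, ← pow_add, hn2,
      pow_succ, inv_pow, hgp, inv_one, one_mul, hgdef, mul_inv_rev, mul_assoc,
      inv_mul_cancel, mul_one]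
    exact (eq_inv_of_mul_eq_one_left htt').symm
  have hhQ : h ∈ qCore G a := pow_mem (inv_mem hgQ) _
  have hhsup : h ∈ rootGroup G a ⊔ rootGroup G b ⊔ rootGroup G c := by
    refine pow_mem (inv_mem (mul_mem (Subgroup.mem_sup_left htm) ?_)) _
    exact (sup_le (le_sup_left.trans le_sup_left) le_sup_right :
      rootGroup G a ⊔ rootGroup G c ≤ _) htm'
  set b' := conjEnd h b with hb'def
  have hb' : IsMin G b' := hb.conj hhQ.1
  have hha : conjEnd h a = a := qCore_commute hhQ ha.self_mem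
  have hab' : IsOpp a b' := by rw [← hha]; exact (isOpp_conj h).mpr hab
  have hsb' : IsProj a b' s' := by
    have e : s' = conjEnd h s := by
      have e1 := congrArg Units.val hht
      rw [Units.val_mul, Units.val_mul, ht, ht'] at e1
      have e2 : (2 : ZMod p) • (s' - conjEnd h s) = 0 := by
        rw [two_smul]
        calc s' - conjEnd h s + (s' - conjEnd h s)
            = -(1 - s' - s') + (h : 𝔼) * ((h⁻¹ : 𝔾) : 𝔼) - (conjEnd h s + conjEnd h s) := by
              rw [Units.mul_inv]; abel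
          _ = 0 := by rw [← e1, conjEnd]; noncomm_ring
      exact sub_eq_zero.mp ((smul_eq_zero.mp e2).resolve_left (two_ne hp))
    rw [e, ← hha, hb'def]
    refine ⟨by rw [conjEnd_mul, hs.left_a], by rw [conjEnd_mul, hs.right_a],
      by rw [conjEnd_mul, hs.left_b], by rw [conjEnd_mul, hs.right_b], ?_, ?_⟩
    · rw [range_conjEnd, range_conjEnd, range_conjEnd, ← Submodule.map_sup]
      exact Submodule.map_mono hs.range_le
    · intro m h1 h2
      have hinj := unit_injective h
      obtain ⟨z, rfl⟩ := LinearMap.surjective_of_injective hinj m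
      have key : ∀ w : 𝔼, conjEnd h w ((h : 𝔼) z) = (h : 𝔼) (w z) := fun w => by
        rw [conjEnd, Module.End.mul_apply, Module.End.mul_apply, ← Module.End.mul_apply _ (h : 𝔼),
          Units.inv_mul, Module.End.one_apply]
      rw [key] at h1 h2 ⊢
      rw [hs.ker_le z ((map_eq_zero_iff _ hinj).mp h1) ((map_eq_zero_iff _ hinj).mp h2), map_zero]
  obtain ⟨q, hq, hqc⟩ := exists_root_conj hp ha hb' hab' hc hac hsb' hs'
  refine ⟨q * h, mul_mem (rootGroup_le_qCore ha.sq hq) hhQ,
    mul_mem (Subgroup.mem_sup_left (Subgroup.mem_sup_left hq)) hhsup, ?_⟩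
  rw [← conjBy_conjBy, conjBy_rootGroup hhQ.1]
  exact hqc

end Cfsg.Agent.FlavellQuad
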